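import Cfsg.Agent.DS.M.C3Defs
import Cfsg.Agent.DS.Gen.SD
import Cfsg.Agent.DS.Sp.F24ATools
import Cfsg.Agent.DS.Sp.Tools
import Cfsg.Agent.Lib.Cores

/-!
# S5881, S5882: the `3`-constrained maximal subgroups of the Monster, abstract part (helper30)

`TB x N` : `x` is a `3`-central element of order three with `N = 3 ^ (1 + 12)` normal in `C(x)`.
-/

set_option autoImplicit false
set_option linter.unusedSectionVars false

namespace Cfsg.Agent.DS.M.Con

open Subgroup Cfsg Cfsg.Agent.H936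

/-- the data of an element of class `3B` -/
structure TB {G : Type*} [Group G] (x : G) (N : Subgroup G) : Prop where
  ox : orderOf x = 3
  le : N ≤ centralizer ({x} : Set G)
  nrm : centralizer ({x} : Set G) ≤ normalizer (N : Set G)
  card : Nat.card N = 3 ^ 13
  comm : ∀ n ∈ N, ∀ m ∈ N, n * m * n⁻¹ * m⁻¹ ∈ zpowers x
  cen : ∀ s ∈ N, (∀ m ∈ N, s * m = m * s) → s ∈ zpowers x
  full : 3 ^ 20 ∣ Nat.card (centralizer ({x} : Set G))
  ps : PS 3 (centralizer ({x} : Set G))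

section

variable {G : Type*} [Group G]

theorem cent_map {G' : Type*} [Group G'] (e : G ≃* G') (x : G) :
    (centralizer ({x} : Set G)).map e.toMonoidHom = centralizer ({e x} : Set G') := by
  ext g
  obtain ⟨g, rfl⟩ := e.surjective g
  rw [mem_centralizer_singleton_iff]
  constructor
  · rintro ⟨a, ha, h⟩
    have h1 : e a = e g := h
    rw [← h1, ← map_mul, ← map_mul, mem_centralizer_singleton_iff.1 ha]
  · intro h
    refine ⟨g, mem_centralizer_singleton_iff.2 (e.injective ?_), rfl⟩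
    rw [map_mul, map_mul, h]

theorem TB.map {G' : Type*} [Group G'] (e : G ≃* G') {x : G} {N : Subgroup G} (h : TB x N) :
    TB (e x) (N.map e.toMonoidHom) := by
  have hz : ∀ s ∈ zpowers x, e s ∈ zpowers (e x) := by
    rintro _ ⟨n, rfl⟩
    exact ⟨n, (map_zpow e x n).symm⟩
  refine ⟨by rw [e.orderOf_eq, h.ox], ?_, ?_, ?_, ?_, ?_, ?_, ?_⟩
  · rw [← cent_map]
    exact map_mono h.le
  · rw [← cent_map]
    exact (map_mono h.nrm).trans (le_normalizer_map _)
  · rw [card_map_of_injective e.injective, h.card]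
  · rintro _ ⟨n, hn, rfl⟩ _ ⟨m, hm, rfl⟩
    have h1 := hz _ (h.comm n hn m hm)
    rwa [map_mul, map_mul, map_mul, map_inv, map_inv] at h1
  · rintro _ ⟨s, hs, rfl⟩ hc
    refine hz _ (h.cen s hs fun m hm => e.injective ?_)
    rw [map_mul, map_mul]
    exact hc _ ⟨m, hm, rfl⟩
  · rw [← cent_map, card_map_of_injective e.injective]
    exact h.full
  · rw [← cent_map]
    exact h.ps.of_equiv (equivMapOfInjective _ _ e.injective)

theorem TB.conj {x : G} {N : Subgroup G} (h : TB x N) (c : G) : ∃ N', TB (c * x * c⁻¹) N' :=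
  ⟨_, h.map (MulAut.conj c)⟩

/-- `N(⟨x⟩) / C(x)` is abelian -/
theorem ps_norm {x : G} {k : ℕ} (h : PS k (centralizer ({x} : Set G))) :
    PS (k + 1) (normalizer ((zpowers x : Subgroup G) : Set G)) := by
  set H := normalizer ((zpowers x : Subgroup G) : Set G) with hH
  have hCH : centralizer ({x} : Set G) ≤ H := by
    intro g hg
    have h1 : ∀ g ∈ centralizer ({x} : Set G), ∀ y ∈ zpowers x, g * y * g⁻¹ = y := by
      rintro g hg _ ⟨n, rfl⟩
      have h2 : Commute g x := mem_centralizer_singleton_iff.1 hg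
      rw [(h2.zpow_right n).eq, mul_inv_cancel_right]
    rw [hH, mem_normalizer_iff]
    intro y
    refine ⟨fun hy => by rw [h1 g hg y hy]; exact hy, fun hy => ?_⟩
    have h2 := h1 g⁻¹ (inv_mem hg) _ hy
    rw [show g⁻¹ * (g * y * g⁻¹) * g⁻¹⁻¹ = y by group] at h2
    rw [h2]
    exact hy
  have hx : ∀ g : H, ∃ n : ℤ, (g : G) * x * (g : G)⁻¹ = x ^ n := fun g => by
    obtain ⟨n, hn⟩ := (mem_normalizer_iff.1 g.2 x).1 (mem_zpowers x)
    exact ⟨n, hn.symm⟩
  have hcomm : ∀ a b : H, (a : G) * b * x * ((a : G) * b)⁻¹ = (b : G) * a * x * ((b : G) * a)⁻¹ := by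
    intro a b
    obtain ⟨n, hn⟩ := hx a
    obtain ⟨m, hm⟩ := hx b
    calc (a : G) * b * x * ((a : G) * b)⁻¹ = a * ((b : G) * x * (b : G)⁻¹) * (a : G)⁻¹ := by group
      _ = x ^ (n * m) := by rw [hm, ← conj_zpow, hn, ← zpow_mul]
      _ = b * ((a : G) * x * (a : G)⁻¹) * (b : G)⁻¹ := by rw [hn, ← conj_zpow, hm, ← zpow_mul, mul_comm]
      _ = _ := by group
  have hn : ((centralizer ({x} : Set G)).subgroupOf H).Normal := by
    refine ⟨fun c hc g => ?_⟩
    obtain ⟨n, hn⟩ := hx g⁻¹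
    have h1 : Commute (c : G) x := mem_centralizer_singleton_iff.1 hc
    have h2 : (g : G)⁻¹ * x * g = x ^ n := by
      rw [← hn]
      simp only [coe_inv, inv_inv]
    refine mem_centralizer_singleton_iff.2 ?_
    change (g : G) * c * (g : G)⁻¹ * x = x * ((g : G) * c * (g : G)⁻¹)
    calc (g : G) * c * (g : G)⁻¹ * x = g * (c * ((g : G)⁻¹ * x * g)) * (g : G)⁻¹ := by group
      _ = g * (((g : G)⁻¹ * x * g) * c) * (g : G)⁻¹ := by rw [h2, (h1.zpow_right n).eq]
      _ = _ := by group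
  refine PS.of_normal ((centralizer ({x} : Set G)).subgroupOf H) (h.of_equiv (subgroupOfEquivOfLe hCH).symm)
    (PS.of_bot ?_)
  rw [derivedSeries_one, eq_bot_iff, commutator_def, commutator_le]
  intro a _ b _
  obtain ⟨a, rfl⟩ := QuotientGroup.mk'_surjective _ a
  obtain ⟨b, rfl⟩ := QuotientGroup.mk'_surjective _ b
  rw [mem_bot, commutatorElement_eq_one_iff_mul_comm, ← map_mul, ← map_mul, QuotientGroup.mk'_apply,
    QuotientGroup.mk'_apply, QuotientGroup.eq]
  refine mem_centralizer_singleton_iff.2 ?_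
  change ((a : G) * b)⁻¹ * (b * a) * x = x * (((a : G) * b)⁻¹ * (b * a))
  calc ((a : G) * b)⁻¹ * (b * a) * x = ((a : G) * b)⁻¹ * ((b : G) * a * x * ((b : G) * a)⁻¹) * (b * a) := by group
    _ = _ := by rw [← hcomm]; group

theorem TB.ps_norm {x : G} {N : Subgroup G} (h : TB x N) : PS 4 (normalizer ((zpowers x : Subgroup G) : Set G)) :=
  Con.ps_norm h.ps

variable [Finite G]

theorem card_eq_mul (N A : Subgroup G) : Nat.card A = Nat.card (A ⊓ N : Subgroup G) * N.relIndex A := by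
  rw [← (N.subgroupOf A).card_mul_index]
  congr 1
  rw [← card_map_of_injective (K := N.subgroupOf A) A.subtype_injective, subgroupOf_map_subtype, inf_comm]

theorem TB.rel_le (hG : ¬ 3 ^ 21 ∣ Nat.card G) {x : G} {N : Subgroup G} (h : TB x N) {U : Subgroup G}
    (hU : IsPGroup 3 U) (hUx : U ≤ centralizer ({x} : Set G)) : N.relIndex U ≤ 3 ^ 7 := by
  have h3 : Fact (Nat.Prime 3) := ⟨Nat.prime_three⟩
  have h1 : IsPGroup 3 ↥(U ⊔ N) := hU.to_sup_of_normal_right' (IsPGroup.of_card h.card) (hUx.trans h.nrm)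
  obtain ⟨k, hk⟩ := IsPGroup.iff_card.1 h1
  have h2 : k ≤ 20 := by
    by_contra h2
    exact hG (((pow_dvd_pow 3 (by omega)).trans hk.symm.dvd).trans (card_subgroup_dvd_card _))
  have h4 := card_eq_mul N (U ⊔ N)
  rw [inf_eq_right.2 le_sup_right, h.card, hk] at h4
  have h5 : 3 ^ k ≤ 3 ^ 20 := Nat.pow_le_pow_right (by norm_num) h2
  have h6 : N.relIndex (U ⊔ N) ≠ 0 := by
    intro h6
    rw [h6, mul_zero] at h4
    exact absurd h4 (by positivity)
  refine (relIndex_le_of_le_right le_sup_left h6).trans ?_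
  have h7 : 3 ^ 13 * N.relIndex (U ⊔ N) ≤ 3 ^ 13 * 3 ^ 7 := by rw [← h4]; exact h5.trans (by norm_num)
  exact Nat.le_of_mul_le_mul_left h7 (by norm_num)

theorem TB.ab_le {x : G} {N : Subgroup G} (h : TB x N) {A : Subgroup G} (hA : A ≤ N)
    (hab : ∀ a ∈ A, ∀ b ∈ A, a * b = b * a) : Nat.card A ≤ 3 ^ 7 := by
  have hZ : Nat.card (zpowers x) = 3 := by rw [Nat.card_zpowers, h.ox]
  have h1 := Sp.F24.card_sq_le Nat.prime_three hZ h.comm (by
    rintro n hn _ ⟨k, rfl⟩
    have h2 : Commute n x := mem_centralizer_singleton_iff.1 (h.le hn)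
    exact (h2.zpow_right k).eq) hA hab
  have h2 : Nat.card (A ⊓ centralizer (N : Set G) : Subgroup G) ≤ 3 := by
    rw [← hZ]
    exact card_le_of_le fun s hs => h.cen s (hA hs.1) fun m hm => (hs.2 m hm).symm
  rw [h.card] at h1
  have h3 : Nat.card A * Nat.card A ≤ 3 ^ 7 * 3 ^ 7 :=
    h1.trans ((Nat.mul_le_mul_left _ h2).trans (by norm_num))
  exact Nat.mul_self_le_mul_self_iff.1 h3

theorem TB.exists_conj (hG : ¬ 3 ^ 21 ∣ Nat.card G) {x : G} {N : Subgroup G} (h : TB x N) {U : Subgroup G}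
    (hU : IsPGroup 3 U) : ∃ (y : G) (N' : Subgroup G), TB y N' ∧ U ≤ centralizer ({y} : Set G) := by
  have h3 : Fact (Nat.Prime 3) := ⟨Nat.prime_three⟩
  obtain ⟨g, hg⟩ := Sp.exists_conj_le _ h.full hG hU
  obtain ⟨N', hN'⟩ := h.conj g⁻¹
  refine ⟨_, N', hN', fun u hu => mem_centralizer_singleton_iff.2 ?_⟩
  have h1 : g * u * g⁻¹ * x = x * (g * u * g⁻¹) := mem_centralizer_singleton_iff.1 (hg ⟨u, hu, rfl⟩)
  calc u * (g⁻¹ * x * g⁻¹⁻¹) = g⁻¹ * (g * u * g⁻¹ * x) * g := by group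
    _ = _ := by rw [h1]; group

/-- abelian `3`-subgroups -/
theorem TB.ab_all (hG : ¬ 3 ^ 21 ∣ Nat.card G) {x : G} {N : Subgroup G} (h : TB x N) {A : Subgroup G}
    (hA : IsPGroup 3 A) (hab : ∀ a ∈ A, ∀ b ∈ A, a * b = b * a) : Nat.card A ≤ 3 ^ 14 := by
  obtain ⟨y, N', h1, h2⟩ := h.exists_conj hG hA
  rw [card_eq_mul N' A]
  exact (Nat.mul_le_mul (h1.ab_le inf_le_right fun a ha b hb => hab a ha.1 b hb.1) (h1.rel_le hG hA h2)).trans
    (by norm_num)

omit [Finite G] in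
theorem eq_one_of_mem {x y w : G} (hy : orderOf y = 3) (hxy : y ∉ zpowers x) (h1 : w ∈ zpowers x) (h2 : w ∈ zpowers y) :
    w = 1 := by
  have h3 : Fact (Nat.Prime 3) := ⟨Nat.prime_three⟩
  by_contra hw
  have hZ : Nat.card (zpowers y) = 3 := by rw [Nat.card_zpowers, hy]
  have hf : Finite (zpowers y) := Nat.finite_of_card_ne_zero (by rw [hZ]; norm_num)
  have h4 : orderOf w = 3 := by
    refine orderOf_eq_prime ?_ hw
    obtain ⟨n, rfl⟩ := h2
    change (y ^ n) ^ 3 = 1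
    rw [← zpow_natCast, ← zpow_mul, mul_comm, zpow_mul, zpow_natCast, ← hy, pow_orderOf_eq_one, one_zpow]
  have h5 : zpowers w = zpowers y :=
    eq_of_le_of_card_ge (zpowers_le.2 h2) (by rw [hZ, Nat.card_zpowers, h4])
  exact hxy (zpowers_le.2 h1 (h5 ▸ mem_zpowers y))

end

/-- **the abstract theorem** -/
theorem main {G : Type} [Group G] [Finite G] (c3 : C3) (hN : Nat.card G ∣ Sp.NB) (hG : ¬ 3 ^ 21 ∣ Nat.card G) {x0 : G}
    {N0 : Subgroup G} (h0 : TB x0 N0) {H R : Subgroup G} (hR : IsPGroup 3 R) (hH : normalizer (R : Set G) = H)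
    (hC : centralizer (R : Set G) ≤ R)
    (hmax : ∀ x : G, orderOf x = 3 → H ≤ normalizer ((zpowers x : Subgroup G) : Set G) →
      normalizer ((zpowers x : Subgroup G) : Set G) = H) : PS 9 H := by
  have h3 : Fact (Nat.Prime 3) := ⟨Nat.prime_three⟩
  obtain ⟨x, N, hx, hRx⟩ := h0.exists_conj hG hR
  have hRH : R ≤ H := hH ▸ le_normalizer
  have hcj : ∀ g ∈ H, ∀ r ∈ R, g * r * g⁻¹ ∈ R := fun g hg r hr => (mem_normalizer_iff.1 (hH.ge hg) r).1 hr
  have hxC : ∀ g ∈ H, g * x * g⁻¹ ∈ centralizer (R : Set G) := by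
    intro g hg r hr
    have h1 := mem_centralizer_singleton_iff.1 (hRx (hcj g⁻¹ (inv_mem hg) r hr))
    calc r * (g * x * g⁻¹) = g * (g⁻¹ * r * g⁻¹⁻¹ * x) * g⁻¹ := by group
      _ = _ := by rw [h1]; group
  by_cases h1 : ∀ g ∈ H, g * x * g⁻¹ ∈ zpowers x
  · rw [← hmax x hx.ox fun g hg => mem_normalizer_fintype ?_]
    · exact hx.ps_norm.mono (by norm_num)
    · rintro _ ⟨n, rfl⟩
      change g * x ^ n * g⁻¹ ∈ zpowers x
      rw [← conj_zpow]
      exact zpow_mem (h1 g hg) n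
  push Not at h1
  obtain ⟨g0, hg0, hy0⟩ := h1
  obtain ⟨Ny, hy⟩ := hx.conj g0
  set y := g0 * x * g0⁻¹ with hydef
  -- the subgroup `V`
  let V : Subgroup G := closure {v | ∃ g ∈ H, g * x * g⁻¹ = v}
  have hVC : V ≤ centralizer (R : Set G) := by
    refine (closure_le _).2 ?_
    rintro _ ⟨g, hg, rfl⟩
    exact hxC g hg
  have hVR : V ≤ R := hVC.trans hC
  have hVab : ∀ a ∈ V, ∀ b ∈ V, a * b = b * a := fun a ha b hb => hVC hb a (hVR ha)
  have hV3 : ∀ a ∈ V, a ^ 3 = 1 := by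
    intro a ha
    induction ha using closure_induction with
    | mem a ha =>
      obtain ⟨g, -, rfl⟩ := ha
      rw [conj_pow, ← hx.ox, pow_orderOf_eq_one, mul_one, mul_inv_cancel]
    | one => exact one_pow 3
    | mul a b ha hb h1 h2 => rw [(show Commute a b from hVab a ha b hb).mul_pow, h1, h2, one_mul]
    | inv a _ h1 => rw [inv_pow, h1, inv_one]
  have hVn : ∀ g ∈ H, ∀ a ∈ V, g * a * g⁻¹ ∈ V := by
    intro g hg a ha
    induction ha using closure_induction with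
    | mem a ha =>
      obtain ⟨k, hk, rfl⟩ := ha
      exact subset_closure ⟨g * k, mul_mem hg hk, by group⟩
    | one => rw [mul_one, mul_inv_cancel]; exact one_mem _
    | mul a b _ _ h1 h2 =>
      rw [show g * (a * b) * g⁻¹ = (g * a * g⁻¹) * (g * b * g⁻¹) by group]
      exact mul_mem h1 h2
    | inv a _ h1 =>
      rw [show g * a⁻¹ * g⁻¹ = (g * a * g⁻¹)⁻¹ by group]
      exact inv_mem h1
  have hxV : x ∈ V := subset_closure ⟨1, one_mem _, by group⟩
  have hyV : y ∈ V := subset_closure ⟨g0, hg0, rfl⟩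
  have hV9 : 9 ≤ Nat.card V := by
    obtain ⟨k, hk⟩ := IsPGroup.iff_card.1 (hR.to_le hVR)
    have h1 : ¬ Nat.card V ≤ Nat.card (zpowers x) := fun h1 =>
      hy0 ((eq_of_le_of_card_ge (zpowers_le.2 hxV) h1).ge hyV)
    rw [Nat.card_zpowers, hx.ox, hk] at h1
    rw [hk]
    have h2 : 2 ≤ k := by
      by_contra h2
      exact h1 ((Nat.pow_le_pow_right (by norm_num) (by omega : k ≤ 1)).trans (by norm_num))
    exact le_trans (by norm_num) (Nat.pow_le_pow_right (by norm_num : 0 < 3) h2)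
  refine Gen.ps_of_sd fun Y0 hY0 => ?_
  set Y : Subgroup G := Y0.map H.subtype ⊔ R with hYdef
  have hRY : R ≤ Y := le_sup_right
  have hYH : Y ≤ H := sup_le (map_subtype_le _) hRH
  have hRn : (R.subgroupOf Y).Normal := ⟨fun r hr g => hcj g (hYH g.2) r hr⟩
  have hRp : IsPGroup 3 (R.subgroupOf Y) := hR.comap_subtype
  let f : Y0 →* Y := (H.subtype.comp Y0.subtype).codRestrict Y fun a => mem_sup_left ⟨a, a.2, rfl⟩
  have hf : Function.Injective f := fun a b hab =>
    Subtype.ext (Subtype.ext (congrArg (fun t : Y => (t : G)) hab))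
  have hYs : Group.IsSolvable Y := by
    have h1 : Group.IsNilpotent (R.subgroupOf Y) := hRp.isNilpotent
    have h2 : Function.Surjective ((QuotientGroup.mk' (R.subgroupOf Y)).comp f) := by
      intro q
      obtain ⟨q, rfl⟩ := QuotientGroup.mk'_surjective _ q
      have h4 : f.range ⊔ R.subgroupOf Y = ⊤ := by
        apply map_injective Y.subtype_injective
        rw [Subgroup.map_sup, subgroupOf_map_subtype, inf_eq_left.2 hRY, ← MonoidHom.range_eq_map, range_subtype]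
        congr 1
        ext a
        constructor
        · rintro ⟨_, ⟨b, rfl⟩, rfl⟩
          exact ⟨b, b.2, rfl⟩
        · rintro ⟨b, hb, rfl⟩
          exact ⟨f ⟨b, hb⟩, ⟨_, rfl⟩, rfl⟩
      obtain ⟨_, ⟨a, rfl⟩, r, hr, rfl⟩ := mem_sup_of_normal_right.1 (h4.ge (mem_top q))
      refine ⟨a, ?_⟩
      rw [map_mul, show QuotientGroup.mk' (R.subgroupOf Y) r = 1 from (QuotientGroup.eq_one_iff r).2 hr, mul_one]
      rfl
    have h4 : Group.IsSolvable (Y ⧸ R.subgroupOf Y) := Group.isSolvable_of_surjective h2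
    exact Group.isSolvable_of_ker_le_range (R.subgroupOf Y).subtype (QuotientGroup.mk' (R.subgroupOf Y))
      (by rw [QuotientGroup.ker_mk', range_subtype])
  have hRP : R.subgroupOf Y ≤ pCore 3 Y := Lib.Cores.le_pCore hRn hRp
  have hVn' : (V.subgroupOf Y).Normal := ⟨fun r hr g => hVn g (hYH g.2) r hr⟩
  have hcv : ∀ g ∈ centralizer ((V.subgroupOf Y : Subgroup Y) : Set Y), ∀ v ∈ V, (g : G) ∈ centralizer ({v} : Set G) :=
    fun g hg v hv => mem_centralizer_singleton_iff.2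
      (congrArg Subtype.val (hg ⟨v, hRY (hVR hv)⟩ hv)).symm
  have hnrm : ∀ (K : Subgroup G) (g : Y), (g : G) ∈ normalizer (K : Set G) →
      g ∈ normalizer ((K.subgroupOf Y : Subgroup Y) : Set Y) := fun K g hg => le_normalizer_comap Y.subtype hg
  have key := c3 Y (pCore 3 Y) (V.subgroupOf Y) ((card_subgroup_dvd_card Y).trans hN) (Lib.Cores.pCore_isPGroup 3)
    (fun L hL h => Lib.Cores.le_pCore hL h) ?_ (fun a ha b hb => Subtype.ext (hVab a ha b hb))
    (fun a ha => Subtype.ext (hV3 a ha)) (Or.inl ?_) ?_ (Or.inr ⟨N.subgroupOf Y, (N ⊓ Ny).subgroupOf Y,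
      fun _ ha => ha.1, fun g hg => hnrm N g (hx.nrm (hcv g hg x hxV)), fun g hg => hnrm _ g ?_, ?_⟩)
  · rw [← Subgroup.map_eq_bot_iff_of_injective _ hf, eq_bot_iff, ← key]
    exact map_derivedSeries_le_derivedSeries f 9
  · intro g hg
    refine hRP (hC fun r hr => ?_)
    exact congrArg Subtype.val (hg ⟨r, hRY hr⟩ (hRP hr))
  · rwa [Nat.card_congr (subgroupOfEquivOfLe (hVR.trans hRY)).toEquiv]
  · intro A hA hab
    rw [← card_map_of_injective (K := A) Y.subtype_injective]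
    refine h0.ab_all hG (hA.map _) ?_
    rintro _ ⟨a, ha, rfl⟩ _ ⟨b, hb, rfl⟩
    exact congrArg Subtype.val (hab a ha b hb)
  · exact inf_normalizer_le_normalizer_inf ⟨hx.nrm (hcv g hg x hxV), hy.nrm (hcv g hg y hyV)⟩
  · intro U hU hUp
    have hW : ∀ W : Subgroup Y, W ≤ U → ∀ v ∈ V, W.map Y.subtype ≤ centralizer ({v} : Set G) := by
      rintro W hW v hv _ ⟨a, ha, rfl⟩
      exact hcv a (hU (hW ha)) v hv
    refine ⟨?_, ?_, ?_⟩
    · rw [subgroupOf, relIndex_comap]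
      exact hx.rel_le hG (hUp.map _) (hW U le_rfl x hxV)
    · have h1 : ((N ⊓ Ny).subgroupOf Y).relIndex (U ⊓ N.subgroupOf Y) =
          (Ny.subgroupOf Y).relIndex (U ⊓ N.subgroupOf Y) := by
        unfold relIndex
        congr 1
        ext a
        exact ⟨fun h => h.2, fun h => ⟨a.2.2, h⟩⟩
      rw [h1, subgroupOf, relIndex_comap]
      exact hy.rel_le hG ((hUp.to_le inf_le_left).map _) (hW _ inf_le_left y hyV)
    · rw [← card_map_of_injective (K := U ⊓ (N ⊓ Ny).subgroupOf Y) Y.subtype_injective]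
      refine hx.ab_le ?_ ?_
      · rintro _ ⟨a, ha, rfl⟩
        exact ha.2.1
      · rintro _ ⟨a, ha, rfl⟩ _ ⟨b, hb, rfl⟩
        have h1 := eq_one_of_mem hy.ox hy0 (hx.comm a ha.2.1 b hb.2.1) (hy.comm a ha.2.2 b hb.2.2)
        exact commutatorElement_eq_one_iff_mul_comm.1 h1

end Cfsg.Agent.DS.M.Con
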