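import Cfsg.Agent.DS.M.Defs
import Cfsg.Agent.DS.M.ConAbs
import Cfsg.Agent.H740.OreM.ThreeBd

/-!
# S5881, S5882: the `3`-constrained maximal subgroups of the Monster (helper30)

`boxM3c : BoxM3c`, `ps_3B`, `exists_TB`.
-/

set_option autoImplicit false
set_option maxHeartbeats 200000

namespace Cfsg.Agent.DS.M.Con

open Subgroup Cfsg Cfsg.Agent.H936 Cfsg.Agent.BpSpor.M5

/-- `D = N C(z)` has perfect third derived subgroup -/
theorem ps_rad {D A : Type*} [Group D] [Finite D] [Group A] [IsSimpleGroup A] {z x : D} {N : Subgroup D}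
    {f : ↥(centralizer ({z} : Set D)) →* A} (h : Rad 3 z x N f) (hA : ¬ Group.IsSolvable A) : PS 3 D := by
  have h3 : Fact (Nat.Prime 3) := ⟨Nat.prime_three⟩
  have hN := h.nN
  have h1 : PS 0 A := Gen.ps_zero_of_simple fun hc => hA (Group.isSolvable_of_comm hc.is_comm.comm)
  have h2 : PS 1 f.ker := by
    refine PS.of_bot ?_
    rw [derivedSeries_one, eq_bot_iff, commutator_def, commutator_le]
    intro a _ b _
    rw [mem_bot, commutatorElement_eq_one_iff_mul_comm]
    exact Subtype.ext (h.ker_central b.2 a)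
  have h4 : PS (1 + 0) (centralizer ({z} : Set D)) := PS.of_ker h.surj h2 h1
  have h5 : Function.Surjective ((QuotientGroup.mk' N).comp (centralizer ({z} : Set D)).subtype) := by
    intro q
    obtain ⟨q, rfl⟩ := QuotientGroup.mk'_surjective _ q
    obtain ⟨n, hn, c, hc, rfl⟩ := h.sup q
    refine ⟨⟨c, mem_centralizer_singleton_iff.2 hc⟩, ?_⟩
    rw [map_mul, show QuotientGroup.mk' N n = 1 from (QuotientGroup.eq_one_iff n).2 hn, one_mul]
    rfl
  have h6 : PS 2 N := by
    refine PS.of_bot ?_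
    have h7 : derivedSeries N 1 ≤ (zpowers x).subgroupOf N := by
      rw [derivedSeries_one, commutator_def, commutator_le]
      intro a _ b _
      obtain ⟨i, hi⟩ := h.comm (by norm_num) a.2 b.2
      refine ⟨i, ?_⟩
      change x ^ i = (a : D) * b * (a : D)⁻¹ * (b : D)⁻¹
      rw [hi, h.xzc i b, mul_inv_cancel_right]
    rw [derivedSeries_succ, eq_bot_iff, commutator_le]
    intro a _ b hb
    obtain ⟨i, hi⟩ := h7 hb
    rw [mem_bot, commutatorElement_eq_one_iff_mul_comm]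
    refine Subtype.ext ?_
    have h8 : x ^ i = (b : D) := hi
    change (a : D) * b = b * a
    rw [← h8]
    exact h.xzc i a
  have h7 : PS 1 (D ⧸ N) := PS.of_surj h5 h4
  have h8 : PS (2 + 1) D := PS.of_normal N h6 h7
  exact h8

open Cfsg.Agent.BpSpor.MBigModel Cfsg.Agent.LThreeMB Cfsg.Agent.H740.OreM

theorem exists_TB {x : centralizer ({zz} : Set MG)} (hx : orderOf x = 3) (hfr : fr (pi x) = 1) :
    ∃ N : Subgroup MG, TB (x : MG) N := by
  have hf := finite
  have h3 : Fact (Nat.Prime 3) := ⟨Nat.prime_three⟩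
  obtain ⟨N, hD⟩ := ThreeBd.exists_SD hx hfr
  have hs := hD.simple
  have hN := hD.rad.nN
  have hz : ∀ s ∈ zpowers (self (x : MG)), (s : MG) ∈ zpowers (x : MG) := by
    rintro _ ⟨n, rfl⟩
    exact ⟨n, rfl⟩
  refine ⟨N.map (centralizer ({(x : MG)} : Set MG)).subtype, by rw [Subgroup.orderOf_coe, hx], map_subtype_le _, ?_, ?_,
    ?_, ?_, Threes.full_of hx hfr 20 (by rw [card_M]; norm_num), ps_rad hD.rad hD.ns⟩
  · intro g hg
    refine mem_normalizer_fintype ?_
    rintro _ ⟨n, hn, rfl⟩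
    exact ⟨_, hN.conj_mem n hn ⟨g, hg⟩, rfl⟩
  · rw [card_map_of_injective (subtype_injective _), hD.cardN]
  · rintro _ ⟨n, hn, rfl⟩ _ ⟨m, hm, rfl⟩
    obtain ⟨i, hi⟩ := hD.rad.comm (by norm_num) hn hm
    refine hz (n * m * n⁻¹ * m⁻¹) ⟨i, ?_⟩
    change self (x : MG) ^ i = n * m * n⁻¹ * m⁻¹
    rw [hi, hD.rad.xzc i m, mul_inv_cancel_right]
  · rintro _ ⟨s, hs, rfl⟩ hc
    exact hz s (hD.cen s hs fun m hm => Subtype.ext (hc _ ⟨m, hm, rfl⟩))

/-- the normalizer of a subgroup of order three of class `3B` -/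
theorem ps_3B {x : centralizer ({zz} : Set MG)} (hx : orderOf x = 3) (hfr : fr (pi x) = 1) (c : MG) :
    PS 4 (normalizer ((zpowers (c * x * c⁻¹) : Subgroup MG) : Set MG)) := by
  obtain ⟨N, hN⟩ := exists_TB hx hfr
  obtain ⟨N', hN'⟩ := hN.conj c
  exact hN'.ps_norm

/-- **[M3c]** -/
theorem boxM3c : BoxM3c := by
  intro _ c3 H R hR hC
  have hf := finite
  have h3 : Fact (Nat.Prime 3) := ⟨Nat.prime_three⟩
  obtain ⟨x, hx, hfr, -⟩ := H31.TwoCyc.MPart.exists_full3
  obtain ⟨N, hN⟩ := exists_TB hx hfr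
  refine main c3 (by rw [card_M]; unfold Sp.NB; norm_num) (by rw [card_M]; norm_num) hN hR.pg hR.norm hC
    fun y hy hH => norm_eq hR.coatom Nat.prime_three (IsPGroup.of_card (n := 1) (by rw [Nat.card_zpowers, hy, pow_one]))
      (fun h => ?_) hH
  rw [zpowers_eq_bot] at h
  rw [h, orderOf_one] at hy
  exact absurd hy (by norm_num)

end Cfsg.Agent.DS.M.Con
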