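import Cfsg.Agent.DS.M.C3Low
import Cfsg.Agent.DS.Sp.D8
import Cfsg.Agent.DS.Sp.Tools

/-!
# Theorem `C3` (helper9)
-/

set_option autoImplicit false
set_option linter.style.haveILetI false

namespace Cfsg.Agent.DS.M

open Subgroup Cfsg.Agent.H511.Wt Cfsg.Agent.DS.Ord
open scoped commutatorElement

/-- a subgroup covers or avoids a chief factor -/
theorem cover_or_avoid {Y : Type} [Group Y] [Finite Y] {C T V : Subgroup Y} [C.Normal] [T.Normal] [V.Normal]
    (hCT : C < T) (hmin : ∀ L : Subgroup Y, L.Normal → C < L → L ≤ T → L = T) :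
    C.relIndex T ≤ Nat.card V ∨ C.relIndex T * Nat.card V ≤ Nat.card (T ⊔ V : Subgroup Y) := by
  by_cases h : V ⊓ T ≤ C
  · right
    rw [← card_mul_relIndex (le_sup_right : V ≤ T ⊔ V), relIndex_sup_right, mul_comm]
    refine Nat.mul_le_mul_left _ ?_
    rw [← inf_relIndex_right V T]
    exact Nat.le_of_dvd (Nat.pos_of_ne_zero index_ne_zero_of_finite) (relIndex_dvd_of_le_left T h)
  · left
    have h1 := hmin (V ⊓ T ⊔ C) inferInstance (lt_of_le_of_ne le_sup_right fun h2 => h (h2 ▸ le_sup_left))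
      (sup_le inf_le_right hCT.le)
    conv_lhs => rw [← h1, relIndex_sup_right]
    exact (Nat.le_of_dvd Nat.card_pos (relIndex_dvd_card _ _)).trans (card_le_of_le inf_le_left)

/-- **Theorem `C3`.** -/
theorem c3 : C3 := by
  intro Y _ _ _ P V _ _ hN hP hmax hcen hVc hV3 hV9 hab hS
  haveI : Fact (Nat.Prime 3) := ⟨Nat.prime_three⟩
  rw [← dser_top]
  by_contra h9
  refine h9 (low hP hmax hcen hN (le_of_chief hP hmax hcen ?_))
  intro C T _ _ hCT hTP hmin
  by_contra hd
  have hV : IsPGroup 3 V := fun x => ⟨1, Subtype.ext (by rw [pow_one]; exact hV3 x x.2)⟩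
  obtain ⟨a, ha⟩ := IsPGroup.iff_card.1 hP
  have h20 := le_twenty ha hN
  obtain ⟨j, hj⟩ := relIndex_pow (C := C) (hP.to_le hTP)
  have h16 : 16 ≤ j := by
    by_contra hlt
    exact h9 (Sp.d8 hN P V hP hmax hcen hV hVc hab hS C T hCT hTP hmin
      (hj ▸ Nat.pow_le_pow_right (by norm_num) (by omega)) hd)
  have h1 : Nat.card C * 3 ^ j ≤ 3 ^ a := by
    rw [← hj, card_mul_relIndex hCT.le, ← ha]
    exact card_le_of_le hTP
  have h2 : 0 < Nat.card C := Nat.card_pos
  have hja : j ≤ a := (Nat.pow_le_pow_iff_right (by norm_num)).1 ((Nat.le_mul_of_pos_left _ h2).trans h1)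
  have h17 : a ≤ 17 := by
    by_contra hlt
    exact hd (chief_le hP ha hN ((lin20.mono le_rfl (div_big (by omega) h20) le_rfl).chB Y) hCT hmin hj (by omega))
  have h3 : 3 ^ 16 ≤ 3 ^ j := Nat.pow_le_pow_right (by norm_num) h16
  have h4 : 3 ^ a ≤ 3 ^ 17 := Nat.pow_le_pow_right (by norm_num) h17
  rcases hV9 with hV9 | hV9
  · rcases cover_or_avoid (V := V) hCT hmin with h5 | h5
    · have h6 := hab V hV hVc
      omega
    · have h6 := card_le_of_le (sup_le hTP (hmax V inferInstance hV))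
      have h7 := Nat.mul_le_mul h3 hV9
      rw [hj] at h5
      omega
  · have hN' : Nat.card Y ∣ Sp.NB / 3 := by
      have h5 : Nat.card Y ∣ 3 ^ (19 + 1) * (2 ^ 46 * NR) := hN.trans (by decide +kernel)
      exact (Sp.dvd_of_not_pow_dvd Nat.prime_three h5 hV9).trans (by decide +kernel)
    have h5 : a = 16 := by
      by_contra hne
      obtain rfl : a = 17 := by omega
      exact hd (chief_le hP ha hN' ((lin20.mono le_rfl (by decide +kernel) le_rfl).chB Y) hCT hmin hj (by omega))
    obtain rfl : C = ⊥ := by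
      rw [← card_le_one_iff_eq_bot]
      rw [h5] at h1
      nlinarith
    have h6 := hab T (hP.to_le hTP) fun x hx y hy => by
      have h7 := chief_comm hCT hmin (commutator_mem_commutator hx hy)
      rwa [mem_bot, commutatorElement_eq_one_iff_mul_comm] at h7
    rw [relIndex_bot_left] at hj
    omega

end Cfsg.Agent.DS.M
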