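import Cfsg.Agent.DS.Sp.D8Defs

/-!
# Theorem `C3` on `3`-constrained solvable groups: the statement (helper9)
-/

set_option autoImplicit false

namespace Cfsg.Agent.DS.M

open Subgroup

/-- a solvable `3`-constrained group with a normal elementary abelian subgroup `V` as in `Sp.S7` has derived length at
most nine -/
def C3 : Prop :=
  ∀ (Y : Type) [Group Y] [Finite Y] [Group.IsSolvable Y] (P V : Subgroup Y) [P.Normal] [V.Normal],
    Nat.card Y ∣ Sp.NB → IsPGroup 3 P → (∀ L : Subgroup Y, L.Normal → IsPGroup 3 L → L ≤ P) →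
    centralizer (P : Set Y) ≤ P → (∀ x ∈ V, ∀ y ∈ V, x * y = y * x) → (∀ x ∈ V, x ^ 3 = 1) →
    (9 ≤ Nat.card V ∨ ¬ 3 ^ 20 ∣ Nat.card Y) →
    (∀ A : Subgroup Y, IsPGroup 3 A → (∀ x ∈ A, ∀ y ∈ A, x * y = y * x) → Nat.card A ≤ 3 ^ 14) →
    Sp.S7 Y V → derivedSeries Y 9 = ⊥

end Cfsg.Agent.DS.M
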