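import Cfsg.Agent.DS.Ord.TabA

/-!
# Sharper bounds for irreducible solvable groups in characteristic three (helper9)

`lin5`, `lin11`, `lin20`: small `3`-part of the order.
-/

set_option autoImplicit false
set_option linter.style.haveILetI false
set_option linter.unusedSectionVars false

namespace Cfsg.Agent.DS.M

open Subgroup Cfsg.Agent.H511.Wt Cfsg.Agent.DS.Ord
open scoped commutatorElement

/-- the bound for all irreducible groups -/
def Lin (q k N e : ℕ) : Prop := ∀ n, LinLt n q k N e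

theorem Lin.mono {q k N e k' N' e' : ℕ} (h : Lin q k N e) (hk : k' ≤ k) (hN : N' ∣ N) (he : e ≤ e') : Lin q k' N' e' :=
  fun n => (h n).mono le_rfl hk hN he

theorem lin_tab {q k N e : ℕ} (hq : q.Prime) (h : okT tabAL q k N e = true) : Lin q k N e :=
  fun n => (tabA_valid n).ok hq h

theorem Lin.chB {q k N e : ℕ} (h : Lin q k N e) (X : Type) [Group X] [Finite X] [Group.IsSolvable X] : ChB X q k N e :=
  chB_of_lin (h (Nat.card X)) le_rfl

section block

variable {G V : Type} [Group G] [Finite G] [Group.IsSolvable G] [AddCommGroup V] [Finite V] [DistribMulAction G V]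

/-- a normal subgroup with a nonzero fixed vector acts trivially -/
theorem fix_all (hirr : Irr G V) (L : Subgroup G) [hL : L.Normal] {v : V} (hv : v ≠ 0) (h : ∀ g ∈ L, g • v = v) :
    ∀ g ∈ L, ∀ x : V, g • x = x := by
  let U : AddSubgroup V :=
    { carrier := {x | ∀ g ∈ L, g • x = x}
      add_mem' := fun {a b} ha hb g hg => by rw [smul_add, ha g hg, hb g hg]
      zero_mem' := fun g _ => smul_zero g
      neg_mem' := fun {a} ha g hg => by rw [smul_neg, ha g hg] }
  have hU : ∀ h : G, ∀ x ∈ U, h • x ∈ U := by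
    intro h x hx g hg
    have h2 := hx _ (hL.conj_mem g hg h⁻¹)
    rw [inv_inv, mul_smul, mul_smul, inv_smul_eq_iff] at h2
    exact h2
  rcases hirr.irr U hU with h1 | h1
  · have h2 : v ∈ U := h
    rw [h1, AddSubgroup.mem_bot] at h2
    exact absurd h2 hv
  · intro g hg x
    have h2 : x ∈ U := by rw [h1]; exact AddSubgroup.mem_top x
    exact h2 g hg

/-- an irreducible submodule -/
theorem exists_irr (K : Subgroup G) {W : AddSubgroup V} (h0 : W ≠ ⊥) (hW : ∀ g ∈ K, ∀ x ∈ W, g • x ∈ W) {q i : ℕ}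
    (hq : q.Prime) (hc : Nat.card W = q ^ i) :
    ∃ (U : AddSubgroup V) (hU : ∀ g ∈ K, ∀ x ∈ U, g • x ∈ U) (j : ℕ), j ≤ i ∧ Nat.card U = q ^ j ∧
      letI := resAct K U hU
      Irr K U := by
  obtain ⟨U, hU⟩ := (Set.toFinite {U : AddSubgroup V | U ≠ ⊥ ∧ U ≤ W ∧ ∀ g ∈ K, ∀ x ∈ U, g • x ∈ U}).exists_minimal
    ⟨W, h0, le_rfl, hW⟩
  obtain ⟨h1, h2, h3⟩ := hU.prop
  have h4 := AddSubgroup.card_dvd_of_le h2
  rw [hc] at h4
  obtain ⟨j, hj, h5⟩ := (Nat.dvd_prime_pow hq).1 h4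
  refine ⟨U, h3, j, hj, h5, ?_⟩
  letI := resAct K U h3
  refine ⟨(AddSubgroup.nontrivial_iff_ne_bot U).2 h1, fun U' hU' => ?_⟩
  by_cases hb : U' = ⊥
  · exact Or.inl hb
  right
  have h6 : U ≤ U'.map U.subtype := by
    refine hU.le_of_le ⟨?_, (AddSubgroup.map_subtype_le _).trans h2, ?_⟩ (AddSubgroup.map_subtype_le _)
    · rwa [Ne, AddSubgroup.map_eq_bot_iff_of_injective _ U.subtype_injective]
    · rintro g hg _ ⟨x, hx, rfl⟩
      exact ⟨_, hU' ⟨g, hg⟩ x hx, rfl⟩
  rw [eq_top_iff]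
  intro x _
  obtain ⟨y, hy, hyx⟩ := h6 x.2
  rwa [← show y = x from Subtype.ext hyx]

/-- a normal subgroup with a small invariant subgroup -/
theorem dl_block (hirr : Irr G V) (K : Subgroup G) [K.Normal] {W : AddSubgroup V} (h0 : W ≠ ⊥)
    (hW : ∀ g ∈ K, ∀ x ∈ W, g • x ∈ W) {q i N a : ℕ} (hq : q.Prime) (hc : Nat.card W = q ^ i) (hN : Nat.card K ∣ N)
    (hL : Lin q i N a) : ∀ g ∈ dser K a, ∀ x : V, g • x = x := by
  obtain ⟨U, hU, j, hj, h1, h2⟩ := exists_irr K h0 hW hq hc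
  letI := resAct K U hU
  have h3 := hL _ K U h2 j hj h1 (Nat.lt_succ_self _) ((card_dvd_of_surjective _ toIm_surjective).trans hN)
  have := h2.nt
  obtain ⟨v, hv⟩ := exists_ne (0 : U)
  refine fix_all hirr (dser K a) (v := v) (fun h => hv (Subtype.ext h)) ?_
  intro g hg
  rw [dser_eq_map, ← dser_top] at hg
  obtain ⟨k, hk, rfl⟩ := hg
  exact congrArg Subtype.val (h3 k hk v)

/-- the primes dividing the order of such a subgroup -/
theorem prime_block (hirr : Irr G V) (hf : ∀ g : G, (∀ x : V, g • x = x) → g = 1) (K : Subgroup G) [hK : K.Normal]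
    {W : AddSubgroup V} (h0 : W ≠ ⊥) (hW : ∀ g ∈ K, ∀ x ∈ W, g • x ∈ W) {q i p : ℕ} (hq : q.Prime)
    (hc : Nat.card W = q ^ i) (hp : p.Prime) (hd : p ∣ Nat.card K) : ∃ j ≤ i, p ∣ glN q j := by
  obtain ⟨U, hU, j, hj, h1, h2⟩ := exists_irr K h0 hW hq hc
  letI := resAct K U hU
  refine ⟨j, hj, ?_⟩
  by_contra hn
  haveI : Fact p.Prime := ⟨hp⟩
  have h3 : ∀ g : K, g ^ p = 1 → ∀ x : U, g • x = x := by
    intro g hg x
    have h4 : orderOf (toIm K U g) ∣ p := orderOf_dvd_of_pow_eq_one (by rw [← map_pow, hg, map_one])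
    have h5 : orderOf (toIm K U g) ∣ glN q j := (_root_.orderOf_dvd_natCard _).trans (card_im_dvd_gl h2 hq h1)
    rcases (Nat.dvd_prime hp).1 h4 with h6 | h6
    · rw [← toIm_smul, orderOf_eq_one_iff.1 h6, one_smul]
    · exact absurd (h6 ▸ h5) hn
  have := h2.nt
  obtain ⟨v, hv⟩ := exists_ne (0 : U)
  obtain ⟨g, hg⟩ := exists_prime_orderOf_dvd_card' p hd
  have h4 := fix_all hirr (normalClosure {(g : G)}) (v := v) (fun h => hv (Subtype.ext h)) (by
    have h5 : normalClosure {(g : G)} ≤ MulAction.stabilizer G (v : V) := by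
      rw [normalClosure, closure_le]
      intro y hy
      obtain ⟨_, rfl, hy⟩ := Group.mem_conjugatesOfSet_iff.1 hy
      obtain ⟨c, rfl⟩ := isConj_iff.1 hy
      refine congrArg Subtype.val (h3 ⟨_, hK.conj_mem _ g.2 c⟩ (Subtype.ext ?_) v)
      change (c * g * c⁻¹) ^ p = 1
      rw [conj_pow, ← Subgroup.coe_pow, ← hg, pow_orderOf_eq_one, Subgroup.coe_one, mul_one, mul_inv_cancel]
    exact fun y hy => h5 hy)
  have h5 : g = 1 := Subtype.ext (hf _ (h4 _ (subset_normalClosure rfl)))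
  rw [h5, orderOf_one] at hg
  exact hp.one_lt.ne hg

variable (G V) in
/-- the data of an imprimitive action -/
structure Blk (q r c i : ℕ) (K T : Subgroup G) (W : AddSubgroup V) : Prop where
  nK : K.Normal
  comm : dser T 1 ≤ K
  card : Nat.card K * r ^ c * T.index = Nat.card G
  top : ∀ N b, Lin r c N b → T.index ∣ N → dser (⊤ : Subgroup G) b ≤ T
  gl : T.index ∣ glN r c
  cW : Nat.card W = q ^ i
  ne : W ≠ ⊥
  inv : ∀ g ∈ K, ∀ x ∈ W, g • x ∈ W

variable {q r c i : ℕ} {K T : Subgroup G} {W : AddSubgroup V}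

theorem Blk.dl (B : Blk G V q r c i K T W) (hirr : Irr G V) (hq : q.Prime) {N1 N2 a b e k : ℕ} (h1 : T.index ∣ N1)
    (h2 : Nat.card K ∣ N2) (hb : Lin r c N1 b) (ha : Lin q k N2 a) (hk : i ≤ k) (he : b + 1 + a ≤ e) : DL G V e := by
  have := B.nK
  refine DL.mono (d := b + 1 + a) (fun g hg => ?_) he
  refine dl_block hirr K B.ne B.inv hq B.cW h2 (ha.mono hk dvd_rfl le_rfl) g ?_
  rw [← dser_dser] at hg
  exact dser_mono (dser_add_le (B.top N1 b hb h1) B.comm) a hg

theorem Blk.std (B : Blk G V q r c i K T W) (hirr : Irr G V) (hq : q.Prime) (hr : r.Prime) {N a b e k : ℕ}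
    (hN : Nat.card G ∣ N) (hb : Lin r c (N / r ^ c) b) (ha : Lin q k (N / r ^ c) a) (hk : i ≤ k) (he : b + 1 + a ≤ e) :
    DL G V e := by
  rw [← B.card] at hN
  refine B.dl hirr hq (dvd_div_of (pow_pos hr.pos c) (dvd_trans ⟨Nat.card K, by ring⟩ hN))
    (dvd_div_of (pow_pos hr.pos c) (dvd_trans ⟨T.index, by ring⟩ hN)) hb ha hk he

/-- blocks of order at most nine -/
theorem Blk.two (B : Blk G V 3 r c i K T W) (hirr : Irr G V) (hf : ∀ g : G, (∀ x : V, g • x = x) → g = 1)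
    (hi : i ≤ 2) (h6 : r ^ c * glN r c ∣ 6 ^ 4) {n m b d : ℕ} (hN : Nat.card G ∣ 2 ^ 46 * n * m) (hm : m.Coprime 6)
    (hn : Nat.Coprime 2 n) (hb : Lin r c (glN r c) b) (hd : b + 1 ≤ d)
    (h : solChk (okT tabAL) 2 (2 ^ 46 * n) d = true) : DL G V (d + 2) := by
  have := B.nK
  have h1 : Nat.card G ∣ 2 ^ 46 * n := by
    refine Nat.Coprime.dvd_of_dvd_mul_right ?_ hN
    refine Nat.eq_one_iff_not_exists_prime_dvd.2 fun p hp hpd => ?_
    have h2 : p ∣ 6 ^ 4 := by
      have h3 := hpd.trans (Nat.gcd_dvd_left _ _)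
      rw [← B.card] at h3
      rcases (Nat.Prime.dvd_mul hp).1 h3 with h4 | h4
      · rcases (Nat.Prime.dvd_mul hp).1 h4 with h5 | h5
        · obtain ⟨j, hj, h6⟩ := prime_block hirr hf K B.ne B.inv Nat.prime_three B.cW hp h5
          have h7 : ∀ j ≤ 2, glN 3 j ∣ 6 ^ 4 := by decide
          exact h6.trans (h7 j (hj.trans hi))
        · exact (h5.mul_right _).trans h6
      · exact ((h4.trans B.gl).mul_left _).trans h6
    have h3 := Nat.dvd_gcd (hpd.trans (Nat.gcd_dvd_right _ _)) (hp.dvd_of_dvd_pow h2)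
    rw [hm.gcd_eq_one, Nat.dvd_one] at h3
    exact hp.one_lt.ne' h3
  obtain ⟨O, hO⟩ := (Set.toFinite {O : Subgroup G | O.Normal ∧ IsPGroup 2 O}).exists_maximal
    ⟨⊥, inferInstance, IsPGroup.of_bot⟩
  obtain ⟨hOn, hO2⟩ := hO.prop
  have hs := QuotientGroup.mk'_surjective O
  have h2 := tabA_valid.sol (G ⧸ O) (p := 2) (fun M hM hM2 => by
    have h3 : M.comap (QuotientGroup.mk' O) ≤ O := by
      refine hO.le_of_ge ⟨hM.comap _, hM2.comap_of_ker_isPGroup _ (by rwa [QuotientGroup.ker_mk'])⟩ ?_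
      conv_lhs => rw [← QuotientGroup.ker_mk' O]
      exact ker_le_comap _ M
    rw [← map_comap_eq_self_of_surjective hs M, Subgroup.map_eq_bot_iff, QuotientGroup.ker_mk']
    exact h3) ((card_quotient_dvd_card O).trans h1) h
  rw [← dser_top, ← map_top_of_surjective _ hs, ← map_dser, Subgroup.map_eq_bot_iff, QuotientGroup.ker_mk'] at h2
  have h3 : dser (⊤ : Subgroup G) d ≤ K := (dser_anti _ hd).trans (dser_add_le (B.top _ b hb B.gl) B.comm)
  haveI : Fact (Nat.Prime 2) := ⟨Nat.prime_two⟩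
  intro g hg
  refine dl_block hirr (O ⊓ K) B.ne (fun g hg => B.inv g hg.2) Nat.prime_three B.cW (N := 2 ^ 46) (a := 2) ?_
    ((lin_tab (k := 2) Nat.prime_three (by decide +kernel)).mono hi dvd_rfl le_rfl) g ?_
  · obtain ⟨k, hk⟩ := IsPGroup.iff_card.1 (hO2.to_le (inf_le_left : O ⊓ K ≤ O))
    have h4 := (card_subgroup_dvd_card (O ⊓ K)).trans h1
    rw [hk] at h4 ⊢
    exact (hn.pow_left k).dvd_of_dvd_mul_right h4
  · rw [← dser_dser] at hg
    exact dser_mono (le_inf h2 h3) 2 hg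

end block

/-- **Clifford theory, with the imprimitive case left open.** -/
theorem clif2 (G V : Type) [Group G] [Finite G] [Group.IsSolvable G] [AddCommGroup V] [Finite V]
    [DistribMulAction G V] (hirr : Irr G V) (hf : ∀ g : G, (∀ x : V, g • x = x) → g = 1) {q j N e : ℕ}
    (hq : q.Prime) (hc : Nat.card V = q ^ j) (hN : Nat.card G ∣ N) (h3 : 3 ≤ e)
    (himp : ∀ r c i K T W, r.Prime → 1 ≤ c → i * r ^ c = j → Blk G V q r c i K T W → DL G V e)
    (hqp : ∀ f m r i, r.Prime → f * m = j → r ∣ m → r ∣ q ^ f - 1 → r ^ i ≤ m → Lin r (2 * i) N (e - 2)) :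
    DL G V e := by
  have hnt := hirr.nt
  rcases exists_qp G V hirr hf with h | ⟨K, i1, i2, i3, ⟨S⟩⟩
  · obtain ⟨M, W, hM, h1, h2, h3⟩ := h
    have D : Imp M W := ⟨h1, h2, h3⟩
    have h5 : M.index ≠ 0 := index_ne_zero_of_finite
    have hcV := D.card_V
    rw [hc] at hcV
    obtain ⟨i, hi, hij⟩ := pow_eq_prime_pow hq h5 hcV.symm
    obtain ⟨T, hT, t1, t2, t3, t4, t5⟩ := coatom_struct hM
    obtain ⟨X, j1, j2, j3, hXirr, hXc, hX⟩ := exists_mod M.normalCore T t1 t2 t3
    obtain ⟨r, c, hr, hc0, hrc⟩ := (isPrimePow_nat_iff _).1 hXirr.isPrimePow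
    have hTi : Nat.card (Im G X) = T.index := by rw [card_im hX, t5]
    refine himp r c i M.normalCore T (W ((1 : G) : _ ⧸ M)) hr hc0 (by rw [hrc, hXc, t4, hij])
      ⟨inferInstance, t3, ?_, ?_, ?_, hi, ?_, fun g hg => D.res_mem g (M.normalCore_le hg)⟩
    · rw [hrc, hXc, card_mul_relIndex t1.le, T.card_mul_index]
    · intro N' b hb hd
      have hb' := hb _ G X hXirr c le_rfl hrc.symm (Nat.lt_succ_self _) (by rwa [hTi])
      rwa [DL.iff_le hX, t5] at hb'
    · rw [← hTi]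
      exact card_im_dvd_gl hXirr hr hrc.symm
    · letI := resAct M (W ((1 : G) : _ ⧸ M)) D.res_mem
      exact (AddSubgroup.nontrivial_iff_ne_bot _).1 (D.irr_res hirr).nt
  · have hqm : Nat.card K ^ Module.finrank K V = q ^ j := by rw [← hc]; exact QP.card_V_eq.symm
    have hm0 : 1 ≤ Module.finrank K V := Module.finrank_pos
    obtain ⟨f, hKf, hfm⟩ := pow_eq_prime_pow hq (by omega) hqm
    have key : ∀ N' ∈ S.Mn, dser (⊤ : Subgroup G) (e - 2) ≤ cenMod S.U N' := by
      intro N' hN'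
      obtain ⟨X, j1, j2, j3, hXirr, hXc, hX⟩ := S.mn_mod hN'
      obtain ⟨r, c, hr, hc0, hrc⟩ := (isPrimePow_nat_iff _).1 hXirr.isPrimePow
      obtain ⟨g, hg⟩ := S.mn_sq hN'
      obtain ⟨i, rfl, hic⟩ := pow_eq_prime_pow (w := g) (k := 2) (a := c) hr (by norm_num) (by rw [← hg, hrc, hXc])
      have hrel := S.relIndex_mn hN'
      have hrs : r ^ c ∣ S.s := by rw [hrc, hXc]; exact hrel.1
      obtain ⟨p1, p2⟩ := S.prime_dvd hr ((dvd_pow_self r (by omega)).trans hrs)
      have hle : r ^ i ≤ Module.finrank K V := by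
        have h7 : (r ^ i) ^ 2 ≤ Module.finrank K V ^ 2 := by
          rw [← hg]
          exact (Nat.le_of_dvd S.s_pos hrel.1).trans S.s_le'
        exact (Nat.pow_le_pow_iff_left (by norm_num)).1 h7
      have hL := hqp f (Module.finrank K V) r i hr hfm p2 (by rw [← hKf]; exact p1.trans S.card_U_dvd) hle
      exact (DL.iff_le hX).1 (hL _ G X hXirr c (by omega) hrc.symm (Nat.lt_succ_self _)
        ((card_dvd_of_surjective _ toIm_surjective).trans hN))
    intro g hg x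
    have h4 := S.dser_top_eq_bot (S.dser_le_E (k := e - 2) (by omega) key)
    rw [show e - 2 + 2 = e by omega] at h4
    rw [h4, mem_bot] at hg
    rw [hg, one_smul]

theorem pc_cases {r c : ℕ} (hr : r.Prime) (hc : 1 ≤ c) (h : r ^ c ≤ 20) :
    (r = 2 ∧ c = 1) ∨ (r = 2 ∧ c = 2) ∨ (r = 2 ∧ c = 3) ∨ (r = 2 ∧ c = 4) ∨ (r = 3 ∧ c = 1) ∨ (r = 3 ∧ c = 2) ∨
      (5 ≤ r ∧ c = 1) := by
  have h1 := hr.two_le
  have h2 : c < 5 := by
    by_contra hlt
    have h3 : 2 ^ 5 ≤ r ^ c := (Nat.pow_le_pow_right (by norm_num) (by omega)).trans (Nat.pow_le_pow_left h1 c)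
    omega
  have h3 : r ≠ 4 := by
    rintro rfl
    norm_num at hr
  by_cases h4 : 5 ≤ r
  · have h5 : c = 1 := by
      by_contra hne
      have h6 : 5 ^ 2 ≤ r ^ c := (Nat.pow_le_pow_right (by norm_num) (by omega)).trans (Nat.pow_le_pow_left h4 c)
      omega
    omega
  · have h5 : r = 2 ∨ r = 3 := by omega
    rcases h5 with rfl | rfl
    · omega
    · interval_cases c <;> simp_all

theorem lin_one {q N : ℕ} (hq : q.Prime) : Lin q 1 N 1 := by
  intro n G V _ _ _ _ _ _ hirr j hj hc _ _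
  obtain rfl : j = 1 := le_antisymm hj (exp_pos hirr hc)
  exact dln_prime hq G V hirr (by rw [hc, pow_one])

/-- the frame of the three bounds -/
theorem lin_of {J N e l : ℕ} (hJ : J ≤ 20) (h3 : 3 ≤ e) (hl : J < 2 ^ (l + 1)) (h2 : Lin 2 (2 * l) N (e - 2))
    (h5 : J < 20 ∨ Lin 5 2 N (e - 2))
    (himp : ∀ (G V : Type) [Group G] [Finite G] [Group.IsSolvable G] [AddCommGroup V] [Finite V] [DistribMulAction G V],
      Irr G V → (∀ g : G, (∀ x : V, g • x = x) → g = 1) → Nat.card G ∣ N → ∀ r c i K T W, r.Prime → 1 ≤ c → 1 ≤ i →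
        i * r ^ c ≤ J → Blk G V 3 r c i K T W → DL G V e) : Lin 3 J N e := by
  intro n G V _ _ _ _ _ _ hirr j hj hc _ hN
  have hsol : Group.IsSolvable (Im G V) := range_solvable
  have hj1 := exp_pos hirr hc
  refine DL.of_range (clif2 (Im G V) V hirr.range range_faithful Nat.prime_three hc hN h3 ?_ ?_)
  · intro r c i K T W hr hc hi B
    refine himp _ _ hirr.range range_faithful hN r c i K T W hr hc (Nat.pos_of_ne_zero ?_) (hi ▸ hj) B
    rintro rfl
    omega
  · intro f m r i hr hfm hrm hrf him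
    have hm : m ≤ j := Nat.le_of_dvd hj1 ⟨f, by rw [← hfm, mul_comm]⟩
    have hf : f ≤ j := Nat.le_of_dvd hj1 ⟨m, hfm.symm⟩
    have hm0 : 0 < m := Nat.pos_of_ne_zero (by rintro rfl; omega)
    have hf0 : 0 < f := Nat.pos_of_ne_zero (by rintro rfl; omega)
    have key : ∀ r ∈ PR, ∀ f < 21, ∀ m < 21, (0 < f ∧ 0 < m ∧ f * m ≤ 20 ∧ r ∣ m ∧ r ∣ 3 ^ f - 1) →
        r = 2 ∨ (r = 5 ∧ m = 5 ∧ f = 4) := by decide +kernel
    rcases key r (mem_PR hr (by have := Nat.le_of_dvd hm0 hrm; omega)) f (by omega) m (by omega)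
      ⟨hf0, hm0, by omega, hrm, hrf⟩ with rfl | ⟨rfl, rfl, rfl⟩
    · refine h2.mono (Nat.mul_le_mul_left 2 ?_) dvd_rfl le_rfl
      have h6 : 2 ^ i < 2 ^ (l + 1) := by omega
      have h7 := (Nat.pow_lt_pow_iff_right (by norm_num)).1 h6
      omega
    · refine (h5.resolve_left (by omega)).mono ?_ dvd_rfl le_rfl
      have h6 : 5 ^ i < 5 ^ 2 := by omega
      have h7 := (Nat.pow_lt_pow_iff_right (by norm_num)).1 h6
      omega

/-- the part prime to six -/
def NR : ℕ := 5 ^ 9 * 7 ^ 6 * 11 ^ 3 * 13 ^ 3 * 17 * 19 * 23 * 29 * 31 * 37 * 41 * 43 * 47 * 59 * 67 * 71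

theorem div_dvd {N t : ℕ} {G : Type} [Group G] [Finite G] {V : Type} [AddCommGroup V] [DistribMulAction G V]
    {q r c i : ℕ} {K T : Subgroup G} {W : AddSubgroup V} (B : Blk G V q r c i K T W) (hN : Nat.card G ∣ N)
    (ht : r ^ c = t) : N / t ∣ N := by
  refine Nat.div_dvd_of_dvd (dvd_trans ?_ hN)
  rw [← B.card, ← ht]
  exact ⟨Nat.card K * T.index, by ring⟩

theorem lin5 : Lin 3 5 (2 ^ 46 * 3 * NR) 4 := by
  refine lin_of (l := 2) (by norm_num) (by norm_num) (by norm_num) (lin_tab Nat.prime_two (by decide +kernel))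
    (Or.inl (by norm_num)) ?_
  intro G V _ _ _ _ _ _ hirr hf hN r c i K T W hr hc hi hJ B
  rcases pc_cases hr hc (by nlinarith) with ⟨rfl, rfl⟩ | ⟨rfl, rfl⟩ | ⟨rfl, rfl⟩ | ⟨rfl, rfl⟩ | ⟨rfl, rfl⟩ | ⟨rfl, rfl⟩ |
    ⟨h5, rfl⟩
  · exact B.two hirr hf (by omega) (by decide) hN (by decide +kernel) (by norm_num) (lin_one hr) (d := 2) le_rfl
      (by decide +kernel)
  · exact B.std hirr Nat.prime_three hr hN (b := 2) (k := 1) (lin_tab hr (by decide +kernel)) (lin_one Nat.prime_three)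
      (by omega) (by norm_num)
  · omega
  · omega
  · exact B.std hirr Nat.prime_three hr hN (k := 1) (lin_one hr) (lin_one Nat.prime_three) (by omega) (by norm_num)
  · omega
  · exact B.std hirr Nat.prime_three hr hN (k := 1) (lin_one hr) (lin_one Nat.prime_three) (by nlinarith) (by norm_num)

theorem lin7 : Lin 3 7 (2 ^ 46 * 9 * NR) 5 := by
  refine lin_of (l := 2) (by norm_num) (by norm_num) (by norm_num) (lin_tab Nat.prime_two (by decide +kernel))
    (Or.inl (by norm_num)) ?_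
  intro G V _ _ _ _ _ _ hirr hf hN r c i K T W hr hc hi hJ B
  rcases pc_cases hr hc (by nlinarith) with ⟨rfl, rfl⟩ | ⟨rfl, rfl⟩ | ⟨rfl, rfl⟩ | ⟨rfl, rfl⟩ | ⟨rfl, rfl⟩ | ⟨rfl, rfl⟩ |
    ⟨h5, rfl⟩
  · exact B.std hirr Nat.prime_three hr hN (b := 0) (a := 4) (k := 3) (lin_tab hr (by decide +kernel))
      (lin_tab Nat.prime_three (by decide +kernel)) (by omega) (by norm_num)
  · exact B.std hirr Nat.prime_three hr hN (b := 2) (k := 1) (lin_tab hr (by decide +kernel)) (lin_one Nat.prime_three)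
      (by omega) (by norm_num)
  · omega
  · omega
  · exact B.two hirr hf (by omega) (by decide) hN (by decide +kernel) (by norm_num) (lin_one hr) (d := 3) (by norm_num)
      (by decide +kernel)
  · omega
  · exact B.std hirr Nat.prime_three hr hN (k := 1) (lin_one hr) (lin_one Nat.prime_three) (by nlinarith) (by norm_num)

theorem lin11 : Lin 3 11 (2 ^ 46 * 9 * NR) 6 := by
  refine lin_of (l := 3) (by norm_num) (by norm_num) (by norm_num) (lin_tab Nat.prime_two (by decide +kernel))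
    (Or.inl (by norm_num)) ?_
  intro G V _ _ _ _ _ _ hirr hf hN r c i K T W hr hc hi hJ B
  rcases pc_cases hr hc (by nlinarith) with ⟨rfl, rfl⟩ | ⟨rfl, rfl⟩ | ⟨rfl, rfl⟩ | ⟨rfl, rfl⟩ | ⟨rfl, rfl⟩ | ⟨rfl, rfl⟩ |
    ⟨h5, rfl⟩
  · exact B.std hirr Nat.prime_three hr hN (b := 0) (a := 5) (k := 5) (lin_tab hr (by decide +kernel))
      (lin_tab Nat.prime_three (by decide +kernel)) (by omega) (by norm_num)
  · exact (B.two hirr hf (by omega) (by decide) hN (by decide +kernel) (by norm_num) (b := 2)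
      (lin_tab hr (by decide +kernel)) (d := 3) le_rfl (by decide +kernel)).mono (by norm_num)
  · exact B.std hirr Nat.prime_three hr hN (b := 2) (k := 1) (lin_tab hr (by decide +kernel)) (lin_one Nat.prime_three)
      (by omega) (by norm_num)
  · omega
  · exact B.std hirr Nat.prime_three hr hN (a := 4) (k := 3) (lin_one hr) (lin_tab hr (by decide +kernel)) (by omega)
      (by norm_num)
  · exact B.std hirr Nat.prime_three hr hN (b := 4) (k := 1) (lin_tab hr (by decide +kernel)) (lin_one hr) (by omega)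
      (by norm_num)
  · exact B.std hirr Nat.prime_three hr hN (a := 4) (k := 2) (lin_one hr)
      ((lin_tab Nat.prime_three (N := 2 ^ 46 * 9 * NR) (by decide +kernel)).mono le_rfl (div_dvd B hN rfl) le_rfl)
      (by nlinarith) (by norm_num)

theorem lin20 : Lin 3 20 (2 ^ 46 * 9 * NR) 7 := by
  refine lin_of (l := 4) (by norm_num) (by norm_num) (by norm_num) (lin_tab Nat.prime_two (by decide +kernel))
    (Or.inr (lin_tab (by norm_num) (by decide +kernel))) ?_
  intro G V _ _ _ _ _ _ hirr hf hN r c i K T W hr hc hi hJ B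
  rcases pc_cases hr hc (by nlinarith) with ⟨rfl, rfl⟩ | ⟨rfl, rfl⟩ | ⟨rfl, rfl⟩ | ⟨rfl, rfl⟩ | ⟨rfl, rfl⟩ | ⟨rfl, rfl⟩ |
    ⟨h5, rfl⟩
  · exact B.std hirr Nat.prime_three hr hN (b := 0) (lin_tab hr (by decide +kernel))
      (lin11.mono le_rfl (div_dvd B hN rfl) le_rfl) (by omega) (by norm_num)
  · have h1 := B.card ▸ hN
    by_cases h3 : 3 ∣ T.index
    · refine B.dl hirr Nat.prime_three B.gl ?_ (b := 2) (lin_tab hr (by decide +kernel)) lin5 (by omega) (by norm_num)
      obtain ⟨s, hs⟩ := h3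
      rw [hs] at h1
      refine Nat.dvd_of_mul_dvd_mul_right (by norm_num : 0 < 3) (dvd_trans ⟨2 ^ 2 * s, by ring⟩ (h1.trans ?_))
      decide +kernel
    · have h2 : T.index ∣ 2 := by
        have h4 : T.index ∣ 2 * 3 := B.gl
        exact ((Nat.Prime.coprime_iff_not_dvd Nat.prime_three).2 h3).symm.dvd_of_dvd_mul_right h4
      exact B.dl hirr Nat.prime_three h2 (dvd_trans ⟨2 ^ 2 * T.index, by ring⟩ h1) (b := 1) (a := 5) (k := 5)
        (lin_tab hr (by decide +kernel)) (lin_tab Nat.prime_three (by decide +kernel)) (by omega) (by norm_num)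
  · exact B.std hirr Nat.prime_three hr hN (b := 2) (a := 4) (k := 2) (lin_tab hr (by decide +kernel))
      (lin_tab Nat.prime_three (by decide +kernel)) (by omega) (by norm_num)
  · exact B.std hirr Nat.prime_three hr hN (b := 3) (k := 1) (lin_tab hr (by decide +kernel)) (lin_one Nat.prime_three)
      (by omega) (by norm_num)
  · exact B.std hirr Nat.prime_three hr hN (lin_one hr) (lin7.mono le_rfl (by decide +kernel) le_rfl) (by omega)
      (by norm_num)
  · exact B.std hirr Nat.prime_three hr hN (b := 2) (a := 4) (k := 2) (lin_tab hr (by decide +kernel))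
      (lin_tab hr (by decide +kernel)) (by omega) (by norm_num)
  · exact B.std hirr Nat.prime_three hr hN (a := 5) (k := 4) (lin_one hr)
      ((lin_tab Nat.prime_three (N := 2 ^ 46 * 9 * NR) (by decide +kernel)).mono le_rfl (div_dvd B hN rfl) le_rfl)
      (by nlinarith) (by norm_num)

end Cfsg.Agent.DS.M
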