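import Cfsg.Agent.DS.M.C3Lin
import Cfsg.Agent.DS.M.C3Defs
import Cfsg.Agent.H240.CommP

/-!
# Theorem `C3`: the cases where the seventh derived subgroup is a `3`-group (helper9)
-/

set_option autoImplicit false
set_option linter.style.haveILetI false
set_option linter.unusedSectionVars false

namespace Cfsg.Agent.DS.M

open Subgroup Cfsg.Agent.H511.Wt Cfsg.Agent.DS.Ord
open scoped commutatorElement

section gen

variable {Y : Type} [Group Y] [Finite Y] [Group.IsSolvable Y] {q : ℕ} [hq : Fact q.Prime]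

theorem chief_comm {C T : Subgroup Y} [C.Normal] [T.Normal] (h1 : C < T)
    (h2 : ∀ L : Subgroup Y, L.Normal → C < L → L ≤ T → L = T) : ⁅T, T⁆ ≤ C := by
  by_contra hn
  have h3 := h2 (C ⊔ ⁅T, T⁆) inferInstance (lt_of_le_of_ne le_sup_left fun h => hn (h ▸ le_sup_right))
    (sup_le h1.le (commutator_self_le T))
  have h4 : T.map (QuotientGroup.mk' C) = ⊥ := by
    refine eq_bot_of_perfect ?_
    rw [← map_commutator]
    conv_lhs => rw [← h3, Subgroup.map_sup, (Subgroup.map_eq_bot_iff _).2 (QuotientGroup.ker_mk' C).ge, bot_sup_eq]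
  rw [Subgroup.map_eq_bot_iff, QuotientGroup.ker_mk'] at h4
  exact h1.not_ge h4

/-- normal `q`-subgroups centralize the chief factors of `q`-power order -/
theorem le_cen {C T L : Subgroup Y} [C.Normal] [T.Normal] [L.Normal] (h1 : C < T)
    (h2 : ∀ L : Subgroup Y, L.Normal → C < L → L ≤ T → L = T) {j : ℕ} (hj : C.relIndex T = q ^ j) (hL : IsPGroup q L) :
    L ≤ cenMod C T := by
  obtain ⟨V, j1, j2, j3, hirr, hc, hV⟩ := exists_mod C T h1 h2 (chief_comm h1 h2)
  exact fun g hg => (hV g).1 (irr_pcore hirr hq.out (hc.trans hj) L hL g hg)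

theorem chief_le {P C T : Subgroup Y} [P.Normal] [C.Normal] [T.Normal] (hP : IsPGroup q P) {a N k e j : ℕ}
    (ha : Nat.card P = q ^ a) (hN : Nat.card Y ∣ N) (hch : ChB Y q k (N / q ^ a) e) (h1 : C < T)
    (h2 : ∀ L : Subgroup Y, L.Normal → C < L → L ≤ T → L = T) (hj : C.relIndex T = q ^ j) (hk : j ≤ k) :
    dser (⊤ : Subgroup Y) e ≤ cenMod C T := by
  refine hch C T h1 h2 (chief_comm h1 h2) j hk hj (dvd_div_of (pow_pos hq.out.pos a) (index_mul_dvd ?_ hN))
  rw [← ha]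
  exact card_dvd_of_le (le_cen h1 h2 hj hP)

/-- small sections are centralized -/
theorem small {P F T A : Subgroup Y} [P.Normal] [F.Normal] [T.Normal] (hP : IsPGroup q P) {a N k e : ℕ}
    (ha : Nat.card P = q ^ a) (hN : Nat.card Y ∣ N) (hch : ChB Y q k (N / q ^ a) e) (hFT : F ≤ T) (hTP : T ≤ P)
    (hk : F.relIndex T < q ^ (k + 1)) (hA : (Nat.card A).Coprime q) (hAe : A ≤ dser (⊤ : Subgroup Y) e) :
    ⁅T, A⁆ ≤ F := by
  refine comm_le_of_chief (hP.to_le hTP) hA ?_ _ T inferInstance hFT le_rfl le_rfl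
  intro C T' _ _ hFC hCT hT' hmin
  obtain ⟨j, hj⟩ := relIndex_pow (C := C) (hP.to_le (hT'.trans hTP))
  refine hAe.trans (chief_le hP ha hN hch hCT hmin hj ?_)
  have h1 : q ^ j ∣ F.relIndex T := by
    rw [← hj, ← relIndex_mul_relIndex F T' T (hFC.trans hCT.le) hT']
    exact (relIndex_dvd_of_le_left T' hFC).trans (dvd_mul_right _ _)
  have h2 := lt_of_le_of_lt (Nat.le_of_dvd (Nat.pos_of_ne_zero index_ne_zero_of_finite) h1) hk
  have h3 := (Nat.pow_lt_pow_iff_right hq.out.one_lt).1 h2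
  omega

theorem comm_trans {F T U A : Subgroup Y} [U.Normal] (hU : IsPGroup q U) (hA : (Nat.card A).Coprime q)
    (h1 : ⁅U, A⁆ ≤ T) (h2 : ⁅T, A⁆ ≤ F) : ⁅U, A⁆ ≤ F := by
  obtain ⟨t, ht⟩ := IsPGroup.iff_card.1 hU
  rw [← S0027.result A U (by rw [normalizer_eq_top]; exact le_top) (by rw [ht]; exact hA.pow_right t)
    (Or.inl inferInstance)]
  exact (commutator_mono h1 le_rfl).trans h2

/-- a normal subgroup whose `q'`-subgroups lie in `P` -/
theorem le_of_cop {P D : Subgroup Y} [D.Normal] (hP : IsPGroup q P)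
    (hmax : ∀ L : Subgroup Y, L.Normal → IsPGroup q L → L ≤ P)
    (h : ∀ A : Subgroup Y, (Nat.card A).Coprime q → A ≤ D → A ≤ P) : D ≤ P := by
  obtain ⟨a, ha⟩ := IsPGroup.iff_card.1 hP
  refine hmax _ inferInstance (IsPGroup.iff_card.2 ⟨_, Nat.eq_prime_pow_of_unique_prime_dvd Nat.card_pos.ne' ?_⟩)
  intro r hr hrd
  by_contra hne
  haveI : Fact r.Prime := ⟨hr⟩
  obtain ⟨⟨g, hg⟩, hgo⟩ := exists_prime_orderOf_dvd_card' r hrd
  have h1 : orderOf g = r := by rw [← hgo]; exact (Subgroup.orderOf_coe ⟨g, hg⟩)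
  have h2 : Nat.card (zpowers g) = r := by rw [Nat.card_zpowers, h1]
  have h4 := card_dvd_of_le
    (h (zpowers g) (by rw [h2]; exact (Nat.coprime_primes hr hq.out).2 hne) (by rwa [zpowers_le]))
  rw [h2, ha] at h4
  exact hne ((Nat.prime_dvd_prime_iff_eq hr hq.out).1 (hr.dvd_of_dvd_pow h4))

theorem le_of_comm {P A : Subgroup Y} (hcen : centralizer (P : Set Y) ≤ P) (h : ⁅P, A⁆ ≤ ⊥) : A ≤ P := by
  rw [le_bot_iff, commutator_comm, commutator_eq_bot_iff_le_centralizer] at h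
  exact h.trans hcen

/-- a normal subgroup centralizing all chief factors in `P` -/
theorem le_of_chief {P D : Subgroup Y} [P.Normal] [D.Normal] (hP : IsPGroup q P)
    (hmax : ∀ L : Subgroup Y, L.Normal → IsPGroup q L → L ≤ P) (hcen : centralizer (P : Set Y) ≤ P)
    (h : ∀ (C T : Subgroup Y) [C.Normal] [T.Normal], C < T → T ≤ P →
      (∀ L : Subgroup Y, L.Normal → C < L → L ≤ T → L = T) → D ≤ cenMod C T) : D ≤ P :=
  le_of_cop hP hmax fun _ hA hAD => le_of_comm hcen (comm_le_of_chief hP hA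
    (fun C T _ _ _ h1 h2 h3 => hAD.trans (h C T h1 h2 h3)) _ P inferInstance bot_le le_rfl le_rfl)

variable (q) in
/-- the subgroup generated by the `q'`-elements -/
def res (W : Subgroup Y) : Subgroup Y := closure {g | g ∈ W ∧ (orderOf g).Coprime q}

theorem res_normal (W : Subgroup Y) [hW : W.Normal] : (res q W).Normal := by
  refine ⟨fun x hx g => ?_⟩
  have h1 : res q W ≤ (res q W).comap (MulAut.conj g).toMonoidHom := by
    rw [res, closure_le]
    intro y hy
    refine subset_closure ⟨hW.conj_mem y hy.1 g, ?_⟩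
    rw [orderOf_injective _ (MulAut.conj g).injective]
    exact hy.2
  exact h1 hx

theorem le_res {W A : Subgroup Y} (hA : (Nat.card A).Coprime q) (h : A ≤ W) : A ≤ res q W :=
  fun _ hg => subset_closure ⟨h hg, hA.coprime_dvd_left (A.orderOf_dvd_natCard hg)⟩

theorem res_le {W B : Subgroup Y} (h : ∀ A : Subgroup Y, (Nat.card A).Coprime q → A ≤ W → A ≤ B) : res q W ≤ B := by
  rw [res, closure_le]
  intro g hg
  exact h (zpowers g) (by rw [Nat.card_zpowers]; exact hg.2) (zpowers_le.2 hg.1) (mem_zpowers g)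

theorem pgroup_res (W : Subgroup Y) [(res q W).Normal] : IsPGroup q (W.map (QuotientGroup.mk' (res q W))) := by
  rintro ⟨_, w, hw, rfl⟩
  obtain ⟨k, m, hm, hkm⟩ := Nat.exists_eq_pow_mul_and_not_dvd (orderOf_pos w).ne' q hq.out.one_lt.ne'
  refine ⟨k, Subtype.ext ?_⟩
  change QuotientGroup.mk' (res q W) w ^ q ^ k = 1
  rw [← map_pow, QuotientGroup.mk'_apply, QuotientGroup.eq_one_iff]
  refine subset_closure ⟨W.pow_mem hw _, ?_⟩
  rw [orderOf_pow, hkm, Nat.gcd_eq_right (Dvd.intro _ rfl), Nat.mul_div_cancel_left _ (pow_pos hq.out.pos k)]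
  exact ((Nat.Prime.coprime_iff_not_dvd hq.out).2 hm).symm

theorem exists_len {P : Subgroup Y} (h0 : P ≠ ⊥) :
    ∃ d, dser P d ≠ ⊥ ∧ dser P (d + 1) = ⊥ := by
  classical
  have hex := exists_dser_eq_bot P
  obtain ⟨d, hd⟩ : ∃ d, Nat.find hex = d + 1 := by
    refine Nat.exists_eq_succ_of_ne_zero fun h1 => h0 ?_
    have := Nat.find_spec hex
    rwa [h1] at this
  exact ⟨d, Nat.find_min hex (by omega), hd ▸ Nat.find_spec hex⟩

end gen

/-- the checker for one prime -/
def oneChk (q c N D v : ℕ) : Bool :=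
  !(dv (q ^ (v + 1)) N) && allLt (fun k => allLt (fun d =>
    stepChk (fun q k N e => Nat.ble c e || okT tabAL q k N e) N D q v (k + 1) d) 7) v

/-- groups whose `c`-th derived subgroup is a `q`-group -/
theorem one_rule (X : Type) [Group X] [Finite X] [Group.IsSolvable X] {q c N D v : ℕ} (hq : q.Prime)
    (hc : IsPGroup q (dser (⊤ : Subgroup X) c)) (hcD : c ≤ D) (hN : Nat.card X ∣ N) (hv : v < 100)
    (h : oneChk q c N D v = true) : dser (⊤ : Subgroup X) D = ⊥ := by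
  by_contra hD
  obtain ⟨K, hKn, s, P, hs, -, hPn, hPs, hmax, hcen, hD'⟩ := exists_constrained X (p := 1)
    (fun M _ hM => normal_one_bot M hM) hD
  haveI : Fact q.Prime := ⟨hq⟩
  have hπ : Function.Surjective (QuotientGroup.mk' K) := QuotientGroup.mk'_surjective K
  have hc' : IsPGroup q (dser (⊤ : Subgroup (X ⧸ K)) c) := by
    rw [← map_top_of_surjective _ hπ, ← map_dser]
    exact hc.map _
  obtain rfl : s = q := by
    by_contra hne
    haveI : Fact s.Prime := ⟨hs⟩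
    have h1 := IsPGroup.disjoint_of_ne s q hne P _ hPs hc'
    have h2 := le_of_comm hcen ((commutator_le_inf _ _).trans h1.le_bot)
    exact hD' (le_bot_iff.1 ((dser_anti _ hcD).trans (h1.eq_bot_of_ge h2).le))
  have hN' : Nat.card (X ⧸ K) ∣ N := (card_quotient_dvd_card K).trans hN
  have hPb : P ≠ ⊥ := by
    rintro rfl
    exact hD' (le_bot_iff.1 (le_of_comm hcen (commutator_bot_left _).le))
  obtain ⟨a, ha⟩ := IsPGroup.iff_card.1 hPs
  obtain ⟨k, hk⟩ := relIndex_pow (C := phi P) hPs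
  obtain ⟨d, hd1, hd2⟩ := exists_len hPb
  obtain ⟨f1, f2, f3⟩ := feas hPs ha hk hd1 hd2
  have hk1 : k ≠ 0 := by
    rintro rfl
    rw [pow_zero, relIndex_eq_one] at hk
    have h1 : frattini P = ⊤ := by
      rw [eq_top_iff]
      intro x _
      obtain ⟨y, hy, hyx⟩ := hk x.2
      rwa [← show y = x from Subtype.ext hyx]
    have h2 : (⊥ : Subgroup P) = ⊤ := frattini_nongenerating (by rw [h1, sup_top_eq])
    apply hPb
    rw [eq_bot_iff]
    intro x hx
    have h3 : (⟨x, hx⟩ : P) ∈ (⊥ : Subgroup P) := by rw [h2]; exact mem_top _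
    exact congrArg Subtype.val (mem_bot.1 h3)
  have hok : ∀ k N e, (Nat.ble c e || okT tabAL s k N e) = true → ChB (X ⧸ K) s k N e := by
    intro k N e h1
    rw [Bool.or_eq_true, Nat.ble_eq] at h1
    rcases h1 with h1 | h1
    · intro C T _ _ h2 h3 _ j _ hj _
      exact (dser_anti _ h1).trans (le_cen h2 h3 hj hc')
    · exact tabA_valid.chB _ hq h1
  have haN : s ^ a ∣ N := by rw [← ha]; exact (card_subgroup_dvd_card P).trans hN'
  rw [oneChk, Bool.and_eq_true, Bool.not_eq_true', ← Bool.not_eq_true, dv_iff] at h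
  have hav : a ≤ v := by
    by_contra hlt
    exact h.1 ((pow_dvd_pow s (by omega)).trans haN)
  have hd : d < 7 := by
    by_contra hlt
    have : 2 ^ 7 ≤ 2 ^ d := Nat.pow_le_pow_right (by norm_num) (by omega)
    omega
  obtain ⟨k, rfl⟩ := Nat.exists_eq_succ_of_ne_zero hk1
  have h5 := allLt_spec (allLt_spec h.2 (show k < v by omega)) hd
  rw [stepChk, force_eq, Bool.or_eq_true, Nat.blt_eq, Bool.and_eq_true, Nat.ble_eq, force_eq, Bool.or_eq_true,
    Bool.and_eq_true, Nat.ble_eq] at h5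
  have h6 : max (k + 1) (max (2 ^ d + 2 * d - 2) (2 ^ d + d + (k + 1) - 2)) ≤ a :=
    max_le f1 (max_le (by omega) (by omega))
  generalize max (k + 1) (max (2 ^ d + 2 * d - 2) (2 ^ d + d + (k + 1) - 2)) = a0 at h5 h6
  obtain ⟨h7, h8⟩ := h5.resolve_left (by omega)
  refine hD' ?_
  rw [eq_bot_iff, ← Nat.sub_add_cancel h7]
  refine dser_add_le (dser_le_of_constrained hPs hmax hcen ha hk hd1 hd2 hN' ?_) hd2.le
  rcases h8 with h8 | ⟨h8, h9⟩
  · exact Or.inl ((hok _ _ _ h8).mono le_rfl (div_pow_dvd hq.pos h6 haN) le_rfl)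
  · have h10 := allLt_spec h9 (show a < v + 1 by omega)
    rw [Bool.or_eq_true, Nat.blt_eq, force_eq, Bool.or_eq_true, Bool.and_eq_true] at h10
    rcases h10.resolve_left (by omega) with h11 | h11
    · exact Or.inl (hok _ _ _ h11)
    · exact Or.inr ⟨h8, hok _ _ _ h11.1, hok _ _ _ h11.2⟩

section three

variable {Y : Type} [Group Y] [Finite Y] [Group.IsSolvable Y] {P : Subgroup Y} [P.Normal]

theorem le_twenty {a : ℕ} (ha : Nat.card P = 3 ^ a) (hN : Nat.card Y ∣ Sp.NB) : a ≤ 20 := by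
  by_contra hlt
  have h1 : 3 ^ 21 ∣ Sp.NB := (pow_dvd_pow 3 (by omega)).trans (ha ▸ (card_subgroup_dvd_card P).trans hN)
  revert h1
  decide +kernel

theorem div_big {a : ℕ} (h1 : 18 ≤ a) (h2 : a ≤ 20) : Sp.NB / 3 ^ a ∣ 2 ^ 46 * 9 * NR := by
  interval_cases a <;> decide +kernel

theorem div_NB {a : ℕ} (h2 : a ≤ 20) : Sp.NB / 3 ^ a ∣ Sp.NB :=
  Nat.div_dvd_of_dvd ((pow_dvd_pow 3 h2).trans (by decide +kernel))

/-- the `3'`-elements of the `c`-th derived subgroup centralize the `(c + 2)`-th one -/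
theorem case_cent (hP : IsPGroup 3 P) (hmax : ∀ L : Subgroup Y, L.Normal → IsPGroup 3 L → L ≤ P)
    (hcen : centralizer (P : Set Y) ≤ P) (hN : Nat.card Y ∣ Sp.NB) {c k : ℕ} (hc : c ≤ 6) (hL : Lin 3 k Sp.NB c)
    (hW : ¬ dser (⊤ : Subgroup Y) c ≤ P) (hchk : oneChk 3 c (Sp.NB / 3 ^ (k + 1)) 8 (19 - k) = true)
    (h : ∀ A : Subgroup Y, (Nat.card A).Coprime 3 → A ≤ dser ⊤ c → ⁅dser (⊤ : Subgroup Y) (c + 2), A⁆ ≤ ⊥) :
    dser (⊤ : Subgroup Y) 9 = ⊥ := by
  haveI : Fact (Nat.Prime 3) := ⟨Nat.prime_three⟩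
  haveI := res_normal (q := 3) (dser (⊤ : Subgroup Y) c)
  set K := res 3 (dser (⊤ : Subgroup Y) c) with hK
  obtain ⟨a, ha⟩ := IsPGroup.iff_card.1 hP
  obtain ⟨b, hb⟩ := IsPGroup.iff_card.1 (hP.to_le (inf_le_left : P ⊓ K ≤ P))
  have h1 : k + 1 ≤ b := by
    by_contra hlt
    refine hW (le_of_cop hP hmax fun A hA hAW => le_of_comm hcen (comm_trans (T := P ⊓ K) hP hA ?_ ?_))
    · exact le_inf (commutator_le_left _ _) ((commutator_mono le_rfl (le_res hA hAW)).trans (commutator_le_right _ _))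
    · refine small hP ha hN ((hL.mono le_rfl (div_NB (le_twenty ha hN)) le_rfl).chB Y) bot_le inf_le_left ?_ hA hAW
      rw [relIndex_bot_left, hb]
      exact Nat.pow_lt_pow_right (by norm_num) (by omega)
  have hπ := QuotientGroup.mk'_surjective K
  have h2 := one_rule (Y ⧸ K) (c := c) (D := 8) (v := 19 - k) Nat.prime_three (by
      rw [← map_top_of_surjective _ hπ, ← map_dser]
      exact pgroup_res _) (hc.trans (by norm_num)) (dvd_div_of (by positivity) (index_mul_dvd (H := K)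
      ((pow_dvd_pow 3 h1).trans (hb ▸ card_dvd_of_le inf_le_right)) hN)) (by omega) hchk
  rw [← map_top_of_surjective _ hπ, ← map_dser, Subgroup.map_eq_bot_iff, QuotientGroup.ker_mk'] at h2
  have h3 : K ≤ centralizer (dser (⊤ : Subgroup Y) (c + 2) : Set Y) := by
    refine res_le fun A hA hAW => ?_
    rw [← commutator_eq_bot_iff_le_centralizer, commutator_comm]
    exact le_bot_iff.1 (h A hA hAW)
  rw [← commutator_eq_bot_iff_le_centralizer] at h3
  rw [eq_bot_iff, ← h3]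
  exact commutator_mono h2 (dser_anti _ (show c + 2 ≤ 8 by omega))

/-- two large sections -/
theorem two_big (hP : IsPGroup 3 P) (hN : Nat.card Y ∣ Sp.NB) {a c k : ℕ} (ha : Nat.card P = 3 ^ a)
    (hL : Lin 3 k (Sp.NB / 3 ^ a) c) {R A : Subgroup Y} [R.Normal] (hR : R ≤ P) (hA : (Nat.card A).Coprime 3)
    (hAW : A ≤ dser ⊤ c) (h : ¬ ⁅R, A⁆ ≤ ⊥) : 3 ^ (k + 1) * Nat.card (dser R 1) ≤ Nat.card R := by
  haveI : Fact (Nat.Prime 3) := ⟨Nat.prime_three⟩
  rw [← card_mul_relIndex (dser_le R 1), mul_comm]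
  refine Nat.mul_le_mul_left _ (not_lt.1 fun hlt => h ?_)
  have h1 := cent_of_comm (hP.to_le hR) hA
    ((small hP ha hN (hL.chB Y) (dser_le R 1) hR hlt hA hAW).trans (comm_le_phi (hP.to_le hR)))
  rw [← commutator_eq_bot_iff_le_centralizer, commutator_comm] at h1
  exact h1.le

theorem three_le_relIndex (hP : IsPGroup 3 P) {F T : Subgroup Y} (hT : T ≤ P) (h : ¬ T ≤ F) : 3 ≤ F.relIndex T := by
  haveI : Fact (Nat.Prime 3) := ⟨Nat.prime_three⟩
  obtain ⟨j, hj⟩ := relIndex_pow (C := F) (hP.to_le hT)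
  have h1 : j ≠ 0 := by
    rintro rfl
    exact h (relIndex_eq_one.1 hj)
  rw [hj]
  exact Nat.le_self_pow h1 3

/-- **The seventh derived subgroup is a `3`-group.** -/
theorem low (hP : IsPGroup 3 P) (hmax : ∀ L : Subgroup Y, L.Normal → IsPGroup 3 L → L ≤ P)
    (hcen : centralizer (P : Set Y) ≤ P) (hN : Nat.card Y ∣ Sp.NB) (h7 : dser (⊤ : Subgroup Y) 7 ≤ P) :
    dser (⊤ : Subgroup Y) 9 = ⊥ := by
  haveI : Fact (Nat.Prime 3) := ⟨Nat.prime_three⟩
  obtain ⟨a, ha⟩ := IsPGroup.iff_card.1 hP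
  have h20 := le_twenty ha hN
  have hcard : ∀ {R : Subgroup Y} {n : ℕ}, R ≤ P → 3 ^ n ≤ Nat.card R → n ≤ a := fun hR hn =>
    (Nat.pow_le_pow_iff_right (by norm_num)).1 (hn.trans (ha ▸ card_le_of_le hR))
  by_contra h9
  by_cases h5 : dser (⊤ : Subgroup Y) 5 ≤ P
  · obtain ⟨d, hd1, hd2⟩ := exists_len (P := P) fun h => h9 (le_bot_iff.1 ((dser_anti _ (by norm_num)).trans (h5.trans h.le)))
    obtain ⟨k, hk⟩ := relIndex_pow (C := phi P) hP
    have h1 := (feas hP ha hk hd1 hd2).2.1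
    have h2 : 4 ≤ d := by
      by_contra hlt
      exact h9 (le_bot_iff.1 (dser_add_le (b := 4) h5 ((dser_anti _ (by omega)).trans hd2.le)))
    have h3 : 2 ^ 4 ≤ 2 ^ d := Nat.pow_le_pow_right (by norm_num) h2
    omega
  by_cases h6 : dser (⊤ : Subgroup Y) 6 ≤ P
  · refine h9 (case_cent hP hmax hcen hN (c := 5) (k := 5) (by norm_num) (lin_tab Nat.prime_three (by decide +kernel)) h5
      (by decide +kernel) fun A hA hAW => ?_)
    by_contra h
    have h' : ¬ ⁅dser (⊤ : Subgroup Y) 6, A⁆ ≤ ⊥ := fun h1 =>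
      h ((commutator_mono (dser_anti _ (by norm_num)) le_rfl).trans h1)
    have h1 := hall_amb (hP.to_le h6) (d := 3) (l := 2) (by rwa [dser_dser]) (by norm_num)
    rw [dser_dser] at h1
    have key : ∀ k, Lin 3 k (Sp.NB / 3 ^ a) 5 → k + 1 + (k + 1 + 6) ≤ a := by
      intro k hL
      have h2 := two_big hP hN ha hL h6 hA hAW h'
      have h3 := two_big hP hN ha hL h7 hA hAW h
      rw [dser_dser] at h2 h3
      refine hcard h6 (le_trans ?_ h2)
      rw [pow_add]
      refine Nat.mul_le_mul_left _ (le_trans ?_ h3)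
      rw [pow_add]
      refine Nat.mul_le_mul_left _ ?_
      norm_num at h1 ⊢
      omega
    have h2 := key 5 ((lin_tab Nat.prime_three (by decide +kernel)).mono le_rfl (div_NB h20) le_rfl)
    have h3 := key 7 (lin7.mono le_rfl (div_big (by omega) h20) le_rfl)
    omega
  refine h9 (case_cent hP hmax hcen hN (c := 6) (k := 7) le_rfl (lin_tab Nat.prime_three (by decide +kernel)) h6
    (by decide +kernel) fun A hA hAW => ?_)
  by_contra h
  have h' : ¬ ⁅dser (⊤ : Subgroup Y) 7, A⁆ ≤ ⊥ := fun h1 =>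
    h ((commutator_mono (dser_anti _ (by norm_num)) le_rfl).trans h1)
  set R := dser (⊤ : Subgroup Y) 7 with hR
  set R1 := dser (⊤ : Subgroup Y) 8 with hR1
  set R2 := dser (⊤ : Subgroup Y) 9 with hR2
  have h8 : R1 ≤ P := (dser_anti _ (by norm_num)).trans h7
  have h17 : a ≤ 17 := by
    by_contra hlt
    have hL := lin11.mono le_rfl (div_big (a := a) (by omega) h20) le_rfl
    have h2 := two_big hP hN ha hL h7 hA hAW h'
    have h3 := two_big hP hN ha hL h8 hA hAW h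
    have h4 : 0 < Nat.card (dser R1 1) := Nat.card_pos
    have h5 := hcard (n := 24) h7 (by
      change _ * Nat.card R1 ≤ _ at h2
      omega)
    omega
  have hL : Lin 3 7 (Sp.NB / 3 ^ a) 6 := (lin_tab Nat.prime_three (by decide +kernel)).mono le_rfl (div_NB h20) le_rfl
  have h2 := two_big hP hN ha hL h7 hA hAW h'
  change _ * Nat.card R1 ≤ _ at h2
  have h3 : Nat.card R ≤ 3 ^ 17 := (card_le_of_le h7).trans (ha ▸ Nat.pow_le_pow_right (by norm_num) h17)
  set G3 := ⁅R1, R⁆ with hG3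
  have g1 : G3 ≤ R1 := commutator_le_left _ _
  have g2 : R2 ≤ ⁅G3, R⁆ := by
    refine S4009.three_le (A := R) (B := R) (C := R1) ?_ le_rfl
    rw [commutator_comm R R1]
  have g3 : ⁅G3, R⁆ ≤ G3 := commutator_le_left _ _
  have nil : ∀ T : Subgroup Y, T.Normal → T ≤ P → T ≤ ⁅T, R⁆ → T = ⊥ := fun T _ hT h =>
    H240.CommP.eq_bot_of_le_commutator (hP.to_le hT) (hP.to_le h7) (by rw [normalizer_eq_top]; exact le_top) h
  have e1 := three_le_relIndex hP h8 (F := G3) fun h =>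
    h9 (le_bot_iff.1 (((g2.trans g3).trans g1).trans (nil _ inferInstance h8 h).le))
  have e2 := three_le_relIndex hP (g1.trans h8) (F := R2) fun h =>
    h9 (le_bot_iff.1 ((g2.trans g3).trans (nil _ inferInstance (g1.trans h8) (h.trans g2)).le))
  have e3 := three_le_relIndex hP ((g2.trans g3).trans (g1.trans h8)) (F := ⊥) fun h => h9 (le_bot_iff.1 h)
  have c1 := card_mul_relIndex g1
  have c2 := card_mul_relIndex (g2.trans g3)
  have c3 : (⊥ : Subgroup Y).relIndex R2 = Nat.card R2 := relIndex_bot_left _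
  have hb : G3.relIndex R1 * (R2.relIndex G3 * (⊥ : Subgroup Y).relIndex R2) ≤ 3 ^ 9 := by
    rw [c3, mul_comm (R2.relIndex G3), c2, mul_comm, c1]
    omega
  have num : ∀ {x y z : ℕ}, 3 ≤ y → 3 ≤ z → x * (y * z) ≤ 3 ^ 9 → x < 3 ^ (7 + 1) := by
    intro x y z h1 h2 h3
    have h4 := Nat.mul_le_mul_left x (Nat.mul_le_mul h1 h2)
    omega
  have s1 := small hP ha hN (hL.chB Y) g1 h8 (num e2 e3 hb) hA hAW
  have s2 := small hP ha hN (hL.chB Y) (g2.trans g3) (g1.trans h8) (num e1 e3 (by rwa [mul_left_comm])) hA hAW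
  have s3 := small hP ha hN (hL.chB Y) bot_le ((g2.trans g3).trans (g1.trans h8))
    (num e1 e2 (by rwa [mul_comm, mul_assoc])) hA hAW
  exact h (comm_trans (hP.to_le h8) hA (comm_trans (hP.to_le h8) hA s1 s2) s3)

end three

end Cfsg.Agent.DS.M
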