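import Cfsg.Agent.DS.M.C3Defs
import Cfsg.Agent.DS.Gen.Split
import Cfsg.Agent.DS.Ord.SDO
import Cfsg.Agent.MonsterP.Equiv
import Cfsg.Agent.BpSpor.MBigEleven
import Cfsg.Agent.S2085

/-!
# S5881, S5882: the Monster, boxes and assembly (helper9)

All boxes are statements on the model `MG`; `H` is a maximal subgroup.  `NoN r H`: `H` normalizes no nontrivial
`r`-subgroup.  `Rad3 H R`: `R` is the largest normal `3`-subgroup of `H`.  Proofs on paper: `notes/DS/monster.md`.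
-/

set_option autoImplicit false
set_option linter.style.haveILetI false

namespace Cfsg.Agent.DS.M

open Subgroup Cfsg Cfsg.Agent.H936
open Cfsg.Agent.BpSpor.MBigModel (MG)

/-- `H` normalizes no nontrivial `r`-subgroup -/
def NoN (r : ℕ) (H : Subgroup MG) : Prop :=
  ∀ Q : Subgroup MG, IsPGroup r Q → H ≤ normalizer (Q : Set MG) → Q = ⊥

/-- `R` is the largest normal `3`-subgroup of the maximal subgroup `H` -/
structure Rad3 (H R : Subgroup MG) : Prop where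
  coatom : IsCoatom H
  pg : IsPGroup 3 R
  ne_bot : R ≠ ⊥
  norm : normalizer (R : Set MG) = H
  max : ∀ Q : Subgroup MG, IsPGroup 3 Q → H ≤ normalizer (Q : Set MG) → Q ≤ R

/-- [M2] the `2`-local maximal subgroups -/
def BoxM2 : Prop := Big → ∀ H Q : Subgroup MG, IsCoatom H → IsPGroup 2 Q → Q ≠ ⊥ → H ≤ normalizer (Q : Set MG) → PS 9 H

/-- [M5] the `r`-local maximal subgroups, `r ≥ 5` -/
def BoxM5 : Prop := Big → ∀ (H E : Subgroup MG) (r : ℕ), Loc ⊤ H E r → 5 ≤ r → PS 9 H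

/-- [M3c] the `3`-constrained maximal subgroups -/
def BoxM3c : Prop := Big → C3 → ∀ H R : Subgroup MG, Rad3 H R → centralizer (R : Set MG) ≤ R → PS 9 H

/-- [M3n] the other `3`-local maximal subgroups -/
def BoxM3n : Prop := Big → ∀ H R : Subgroup MG, Rad3 H R → (∀ r : ℕ, r.Prime → r ≠ 3 → NoN r H) →
  ¬ centralizer (R : Set MG) ≤ R → PS 9 H

theorem setup_top {H : Subgroup MG} (hH : IsCoatom H) : Setup ⊤ H := by
  have hs := BpSpor.MBigModel.simple
  have hf := BpSpor.MBigModel.finite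
  have hnc : ¬ IsMulCommutative MG := by
    intro h
    have h1 : (Nat.card MG).Prime := by
      letI : CommGroup MG := { (inferInstance : Group MG) with mul_comm := h.is_comm.comm }
      exact IsSimpleGroup.prime_card
    rw [BpSpor.MBigModel.card_M] at h1
    exact absurd (h1.eq_one_or_self_of_dvd 2 (by norm_num)) (by norm_num)
  refine ⟨inferInstance, topEquiv.isSimpleGroup, fun h => hnc ⟨⟨fun a b => ?_⟩⟩, ?_, hH, fun h => hH.1 (top_le_iff.1 h)⟩
  · exact congrArg Subtype.val (h.is_comm.comm (⟨a, mem_top a⟩ : (⊤ : Subgroup MG)) ⟨b, mem_top b⟩)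
  · rw [coe_top, centralizer_univ]
    rcases (inferInstance : (center MG).Normal).eq_bot_or_eq_top with h | h
    · exact h
    · exact absurd ⟨⟨fun a b => (mem_center_iff.1 (h ▸ mem_top b) a)⟩⟩ hnc

/-- a maximal subgroup is the normalizer of every nontrivial `r`-subgroup which it normalizes -/
theorem norm_eq {H Q : Subgroup MG} (hH : IsCoatom H) {r : ℕ} (hr : r.Prime) (hQ : IsPGroup r Q) (h0 : Q ≠ ⊥)
    (hHQ : H ≤ normalizer (Q : Set MG)) : normalizer (Q : Set MG) = H := by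
  have hf := BpSpor.MBigModel.finite
  have : Fact r.Prime := ⟨hr⟩
  refine Gen.normalizer_eq_of_setup (setup_top hH) le_top h0 ?_ hHQ
  rintro rfl
  obtain ⟨k, hk⟩ := IsPGroup.iff_card.1 hQ
  rw [card_top, BpSpor.MBigModel.card_M] at hk
  have h2 : 2 ∣ r ^ k := by rw [← hk]; norm_num
  have h3 : 3 ∣ r ^ k := by rw [← hk]; norm_num
  have h4 := (Nat.prime_dvd_prime_iff_eq Nat.prime_two hr).1 (Nat.prime_two.dvd_of_dvd_pow h2)
  have h5 := (Nat.prime_dvd_prime_iff_eq Nat.prime_three hr).1 (Nat.prime_three.dvd_of_dvd_pow h3)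
  omega

/-- from a normalized `r`-subgroup to `Loc` -/
theorem exists_loc {H Q : Subgroup MG} (hH : IsCoatom H) {r : ℕ} (hr : r.Prime) (hQ : IsPGroup r Q) (h0 : Q ≠ ⊥)
    (hHQ : H ≤ normalizer (Q : Set MG)) : ∃ E : Subgroup MG, E ≤ Q ⊓ centralizer (Q : Set MG) ∧ Loc ⊤ H E r := by
  have hf := BpSpor.MBigModel.finite
  have : Fact r.Prime := ⟨hr⟩
  have h1 : Q ⊓ centralizer (Q : Set MG) ≠ ⊥ := by
    have : Nontrivial Q := (nontrivial_iff_ne_bot Q).2 h0
    obtain ⟨⟨z, hz⟩, hz1⟩ := @exists_ne _ hQ.center_nontrivial 1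
    intro h
    have h2 : (z : MG) ∈ Q ⊓ centralizer (Q : Set MG) :=
      ⟨z.2, fun y hy => congrArg Subtype.val (mem_center_iff.1 hz ⟨y, hy⟩)⟩
    rw [h, mem_bot] at h2
    exact hz1 (Subtype.ext (Subtype.ext h2))
  have h2 : H ≤ normalizer ((Q ⊓ centralizer (Q : Set MG) : Subgroup MG) : Set MG) := by
    have key : ∀ g ∈ H, ∀ x ∈ Q ⊓ centralizer (Q : Set MG), g * x * g⁻¹ ∈ Q ⊓ centralizer (Q : Set MG) := by
      intro g hg x hx
      refine ⟨(mem_normalizer_iff.1 (hHQ hg) x).1 hx.1, fun y hy => ?_⟩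
      have h3 := hx.2 _ ((mem_normalizer_iff.1 (hHQ (H.inv_mem hg)) y).1 hy)
      calc y * (g * x * g⁻¹) = g * (g⁻¹ * y * g⁻¹⁻¹ * x) * g⁻¹ := by group
        _ = g * (x * (g⁻¹ * y * g⁻¹⁻¹)) * g⁻¹ := by rw [h3]
        _ = g * x * g⁻¹ * y := by group
    intro g hg
    rw [mem_normalizer_iff]
    refine fun x => ⟨key g hg x, fun hx => ?_⟩
    have h3 := key g⁻¹ (H.inv_mem hg) _ hx
    rwa [show g⁻¹ * (g * x * g⁻¹) * g⁻¹⁻¹ = x by group] at h3
  obtain ⟨E, s, hE, hL⟩ := Gen.exists_loc (setup_top hH) le_top h2 h1 fun x hx y hy => hy.2 x hx.1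
  obtain ⟨⟨e, he⟩, he1⟩ := @exists_ne _ ((nontrivial_iff_ne_bot E).2 hL.ne_bot) 1
  have he1' : e ≠ 1 := fun h => he1 (Subtype.ext h)
  have : Fact s.Prime := ⟨hL.prime⟩
  have h3 : orderOf e = s := orderOf_eq_prime (hL.pow e he) he1'
  obtain ⟨k, hk⟩ := hQ ⟨e, (hE he).1⟩
  have h4 : s ∣ r ^ k := h3 ▸ orderOf_dvd_of_pow_eq_one (congrArg Subtype.val hk)
  obtain rfl : s = r := (Nat.prime_dvd_prime_iff_eq hL.prime hr).1 (hL.prime.dvd_of_dvd_pow h4)
  exact ⟨E, hE, hL⟩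

/-- the largest normal `3`-subgroup -/
theorem exists_rad3 {H Q : Subgroup MG} (hH : IsCoatom H) (hQ : IsPGroup 3 Q) (h0 : Q ≠ ⊥)
    (hHQ : H ≤ normalizer (Q : Set MG)) : ∃ R, Rad3 H R := by
  have hf := BpSpor.MBigModel.finite
  obtain ⟨R, hR⟩ := (Set.toFinite {R : Subgroup MG | IsPGroup 3 R ∧ R ≠ ⊥ ∧ H ≤ normalizer (R : Set MG)}).exists_maximal
    ⟨Q, hQ, h0, hHQ⟩
  obtain ⟨h1, h2, h3⟩ := hR.prop
  refine ⟨R, hH, h1, h2, norm_eq hH Nat.prime_three h1 h2 h3, fun L hL hHL => ?_⟩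
  by_cases hb : L = ⊥
  · rw [hb]
    exact bot_le
  have h4 : R ≤ normalizer (L : Set MG) := (le_normalizer.trans (norm_eq hH Nat.prime_three h1 h2 h3).le).trans hHL
  refine le_sup_left.trans (hR.le_of_ge ⟨IsPGroup.to_sup_of_normal_left' hL h1 h4, ne_bot_of_le_ne_bot h2 le_sup_right,
    ?_⟩ le_sup_right)
  exact (le_inf hHL h3).trans (normalizer_inf_normalizer_le_normalizer_sup _ _)

theorem ps_MG (big : Big) (h2 : BoxM2) (h5 : BoxM5) (hc : BoxM3c) (hn : BoxM3n) (c3 : C3) {H Q : Subgroup MG}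
    (hH : IsCoatom H) {r : ℕ} (hr : r.Prime) (hQ : IsPGroup r Q) (h0 : Q ≠ ⊥) (hHQ : H ≤ normalizer (Q : Set MG)) :
    PS 9 H := by
  by_cases h : ∀ s : ℕ, s.Prime → s ≠ 3 → NoN s H
  · obtain rfl : r = 3 := by
      by_contra hne
      exact h0 (h r hr hne Q hQ hHQ)
    obtain ⟨R, hR⟩ := exists_rad3 hH hQ h0 hHQ
    by_cases h1 : centralizer (R : Set MG) ≤ R
    · exact hc big c3 H R hR h1
    · exact hn big H R hR h h1
  · simp only [NoN, not_forall] at h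
    obtain ⟨s, hs, hs3, L, hL, hHL, hL0⟩ := h
    rcases (by have := hs.two_le; omega : s = 2 ∨ s = 4 ∨ 5 ≤ s) with rfl | rfl | h1
    · exact h2 big H L hH hL hL0 hHL
    · exact absurd hs (by norm_num)
    · obtain ⟨E, -, hE⟩ := exists_loc hH hs hL hL0 hHL
      exact h5 big H E s hE h1

/-- **Assembly.** -/
theorem boxM_of (h2 : BoxM2) (h5 : BoxM5) (hc : BoxM3c) (hn : BoxM3n) (c3 : C3) : BoxM := by
  intro big G _ _ S H E r hL h
  have hs := hL.toSetup
  have hd := Ord.card_dvd_of_setup hs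
  have ho : Nat.card (Cfsg.Out S) = 1 := Nat.dvd_one.1 (Ord.card_out_of h S2085.result)
  rw [ho, mul_one] at hd
  obtain rfl : S = ⊤ := eq_top_of_le_card S (Nat.le_of_dvd Nat.card_pos hd)
  obtain ⟨e1⟩ := h
  obtain ⟨e2⟩ := MonsterP.Equiv.equiv
  let e : G ≃* MG := topEquiv.symm.trans (e1.trans e2)
  have hH : IsCoatom (H.map e.toMonoidHom) := (OrderIso.isCoatom_iff e.mapSubgroup H).2 hs.coatom
  have : Fact r.Prime := ⟨hL.prime⟩
  have hE : IsPGroup r E := fun x => ⟨1, Subtype.ext (by rw [pow_one]; exact hL.pow x x.2)⟩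
  refine (ps_MG big h2 h5 hc hn c3 hH hL.prime (hE.map e.toMonoidHom) ?_ ?_).of_equiv
    (H.equivMapOfInjective _ e.injective).symm
  · rw [Ne, Subgroup.map_eq_bot_iff_of_injective _ e.injective]
    exact hL.ne_bot
  · rw [← hL.norm]
    exact le_normalizer_map _

end Cfsg.Agent.DS.M
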