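import Cfsg.Agent.DS.M.Defs
import Cfsg.Agent.DS.B.Tools
import Cfsg.Agent.DS.Gen.Omega
import Cfsg.Agent.SP.Mon.NL.Cent

/-!
# S5881, S5882: the Monster, the `r`-local maximal subgroups for `r ≥ 5` (helper14)

The orbit lemma and the table of the centralizer orders bound the `2`-, `3`- and `5`-parts of `|N(E)|`; the order
recursion decides, for `r = 5` after a look at the chief factors of order `5 ^ 8` and `5 ^ 9`.
-/

set_option autoImplicit false
set_option linter.style.haveILetI false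

namespace Cfsg.Agent.DS.M.Five

open Subgroup Cfsg Cfsg.Agent.H936 Cfsg.Agent.DS.Ord Cfsg.Agent.H511.Wt
open Cfsg.Agent.BpSpor.MBigModel (MG)
open Cfsg.Agent.H995.CopEngine (AllKnown)
open Cfsg.Agent.SP.Mon.NL (tabE tabO NM cent_all)

/-- the part of `|M|` prime to `30` -/
def rest : ℕ := 7 ^ 6 * 11 ^ 2 * 13 ^ 3 * 17 * 19 * 23 * 29 * 31 * 41 * 47 * 59 * 71

theorem shrink {n a b c : ℕ} (h : n ∣ NM) (h2 : ¬ 2 ^ (a + 1) ∣ n) (h3 : ¬ 3 ^ (b + 1) ∣ n)
    (h5 : ¬ 5 ^ (c + 1) ∣ n) : n ∣ 2 ^ a * 3 ^ b * 5 ^ c * rest := by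
  have g : n ∣ 1 * (2 ^ 46 * (3 ^ 20 * (5 ^ 9 * rest))) := h.trans (by unfold rest; norm_num)
  have g := H537.OreM.step Nat.prime_two g h2
  have g := H537.OreM.step Nat.prime_three g h3
  have g := H537.OreM.step Nat.prime_five g h5
  rwa [one_mul] at g

theorem sd_one : SDOrd (2 ^ 9 * 3 ^ 20 * 5 ^ 9 * rest) 9 := sdOrd_of (by decide +kernel)

theorem sd_two : SDOrd (2 ^ 21 * 3 ^ 12 * 5 ^ 8 * rest) 9 := sdOrd_of (by decide +kernel)

theorem sd_three : SDOrd (2 ^ 10 * 3 ^ 9 * 5 ^ 9 * rest) 9 := sdOrd_of (by decide +kernel)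

theorem sd_four : SDOrd (2 ^ 15 * 3 ^ 9 * 5 ^ 7 * rest) 8 := sdOrd_of (by decide +kernel)

/-- the table, with the chief factors of order `5 ^ j` bounded by `j ≤ 7` -/
def ok7 (q k N e : ℕ) : Bool := okT tabAL q k N e || (Nat.beq q 5 && okT tabAL 5 7 N e)

theorem chk_five : solChk ok7 1 (2 ^ 21 * 3 ^ 12 * 5 ^ 9 * rest) 9 = true := by decide +kernel

/-- a minimal normal subgroup of order `5 ^ w`, `2 ≤ w ≤ 7`, bounds the chief factors -/
theorem chB_five {X : Type} [Group X] [Finite X] {F : Subgroup X} [F.Normal]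
    (hmin : ∀ L : Subgroup X, L.Normal → L ≤ F → L = ⊥ ∨ L = F) {w : ℕ} (hF : Nat.card F = 5 ^ w) (h2 : 2 ≤ w)
    (h7 : w ≤ 7) (h10 : ¬ 5 ^ 10 ∣ Nat.card X) {k N e : ℕ} (h : ChB X 5 7 N e) : ChB X 5 k N e := by
  intro C T _ _ h1 h3 h4 j _ h5 h6
  refine h C T h1 h3 h4 j ?_ h5 h6
  by_contra hj
  have hT : Nat.card C * 5 ^ j = Nat.card T := by
    rw [← h5, ← Nat.card_congr (subgroupOfEquivOfLe h1.le).toEquiv]
    exact card_mul_index _
  have h8 : 5 ^ 8 ∣ 5 ^ j := pow_dvd_pow 5 (by omega)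
  have h9 : 5 ^ 2 ∣ Nat.card F := hF ▸ pow_dvd_pow 5 h2
  rcases hmin (F ⊓ T) inferInstance inf_le_left with h11 | h11
  · apply h10
    have h12 : Function.Injective ((QuotientGroup.mk' F).comp T.subtype) := by
      rw [injective_iff_map_eq_one]
      intro x hx
      have h13 : (x : X) ∈ F ⊓ T := ⟨(QuotientGroup.eq_one_iff _).1 hx, x.2⟩
      rw [h11, mem_bot] at h13
      exact Subtype.ext h13
    rw [card_eq_card_quotient_mul_card_subgroup F, show 5 ^ 10 = 5 ^ 8 * 5 ^ 2 by norm_num]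
    exact Nat.mul_dvd_mul ((h8.trans (hT ▸ dvd_mul_left _ _)).trans (card_dvd_of_injective _ h12)) h9
  have h12 : F ≤ T := inf_eq_left.1 h11
  by_cases h13 : F ≤ C
  · apply h10
    refine dvd_trans ?_ (card_subgroup_dvd_card T)
    rw [← hT, show 5 ^ 10 = 5 ^ 2 * 5 ^ 8 by norm_num]
    exact Nat.mul_dvd_mul (h9.trans (card_dvd_of_le h13)) h8
  have h14 : C ⊔ F = T := h3 _ inferInstance (left_lt_sup.2 h13) (sup_le h1.le h12)
  rw [← h14, relIndex_sup_left] at h5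
  have h15 : 5 ^ j ∣ 5 ^ w := by
    rw [← h5, ← hF]
    exact index_dvd_card _
  rw [Nat.pow_dvd_pow_iff_le_right (by norm_num)] at h15
  omega

theorem sol_five {X : Type} [Group X] [Finite X] [Group.IsSolvable X] {F : Subgroup X} [F.Normal]
    (hmin : ∀ L : Subgroup X, L.Normal → L ≤ F → L = ⊥ ∨ L = F) {w : ℕ} (hF : Nat.card F = 5 ^ w) (h2 : 2 ≤ w)
    (h7 : w ≤ 7) (hN : Nat.card X ∣ 2 ^ 21 * 3 ^ 12 * 5 ^ 9 * rest) : derivedSeries X 9 = ⊥ := by
  refine sol_of_chk X (ok := ok7) ?_ (p := 1) (fun M _ hM => normal_one_bot M hM) hN chk_five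
  intro q k N e hq h
  rw [ok7, Bool.or_eq_true, Bool.and_eq_true, Nat.beq_eq] at h
  rcases h with h | ⟨rfl, h⟩
  · exact tabA_valid.chB X hq h
  · refine chB_five hmin hF h2 h7 (fun h1 => ?_) (tabA_valid.chB X hq h)
    exact absurd (h1.trans hN) (by unfold rest; norm_num)

/-- the orbit lemma with the table of the centralizer orders -/
theorem orb (hK : AllKnown.{0}) {E : Subgroup MG} {r w : ℕ} (hr : r.Prime) (hr2 : r ≠ 2) (hE : Nat.card E = r ^ w)
    {n : ℕ} (hn : ∀ x ∈ E, orderOf x = r → n ∣ Nat.card (centralizer ({x} : Set MG))) {p a : ℕ} (hp : p.Prime)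
    (h : ∃ j ≤ a, ¬ p ^ (j + 1) ∣ r ^ w - 1 ∧ ∀ e ∈ tabE ++ tabO, e.1 = r → n ∣ e.2 → ¬ p ^ (a - j) ∣ e.2) :
    ¬ p ^ a ∣ Nat.card (normalizer (E : Set MG)) := by
  have hf := BpSpor.MBigModel.finite
  haveI : Fact p.Prime := ⟨hp⟩
  obtain ⟨j, hj, h1, h2⟩ := h
  intro h3
  obtain ⟨x, hx, h4, h5⟩ := B.exists_prime_cent (p := p) (j := j) (m := a - j) hr (IsPGroup.of_card hE)
    (by rwa [hE]) (by rwa [Nat.add_sub_cancel' hj])
  obtain ⟨c, h6, h7⟩ := cent_all hK hr hr2 h4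
  exact h2 _ h6 rfl ((hn x hx h4).trans h7) (h5.trans h7)

/-- the check for the orbit lemma -/
def Chk (r w n p a : ℕ) : Prop :=
  ∃ j ≤ a, ¬ p ^ (j + 1) ∣ r ^ w - 1 ∧ ∀ e ∈ tabE ++ tabO, e.1 = r → n ∣ e.2 → ¬ p ^ (a - j) ∣ e.2

theorem chk_big : ∀ r ∈ [11, 13, 17, 19, 23, 29, 31, 41, 47, 59, 71], ∀ w < 4, 1 ≤ w → r ^ w ∣ NM →
    Chk r w 1 2 10 := by
  unfold Chk
  decide +kernel

theorem chk_seven : ∀ e ∈ [(2, 22), (3, 13), (5, 9)], ∀ w < 7, 1 ≤ w → Chk 7 w 1 e.1 e.2 := by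
  unfold Chk
  decide +kernel

theorem chk_five_all : ∀ e ∈ [(2, 22), (3, 10)], ∀ w < 10, 1 ≤ w → Chk 5 w 1 e.1 e.2 := by
  unfold Chk
  decide +kernel

theorem card_dvd (H : Subgroup MG) : Nat.card H ∣ NM :=
  (card_subgroup_dvd_card H).trans BpSpor.MBigModel.card_M.dvd

theorem chk_five_one : Chk 5 1 (5 ^ 8) 2 11 := by
  unfold Chk
  decide +kernel

theorem chk_five_top : ∀ w < 10, 8 ≤ w → Chk 5 w (5 ^ 8) 2 16 := by
  unfold Chk
  decide +kernel

theorem prime_cases {r : ℕ} (hr : r.Prime) (h5 : 5 ≤ r) (h : r ∣ NM) :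
    r = 5 ∨ r = 7 ∨ r ∈ [11, 13, 17, 19, 23, 29, 31, 41, 47, 59, 71] := by
  have h1 := mem_PR_of_dvd hr (by decide +kernel) h
  have key : ∀ r ∈ PR, 5 ≤ r → r ∣ NM → r = 5 ∨ r = 7 ∨ r ∈ [11, 13, 17, 19, 23, 29, 31, 41, 47, 59, 71] := by
    decide +kernel
  exact key r h1 h5 h

theorem exp_lt {r w k : ℕ} (h : r ^ w ∣ NM) (hk : ¬ r ^ k ∣ NM) : w < k := by
  by_contra hlt
  exact hk ((pow_dvd_pow r (by omega)).trans h)

/-- the case `r = 5` -/
theorem five_case (hK : AllKnown.{0}) {H E : Subgroup MG} (hL : Loc ⊤ H E 5) {w : ℕ} (hE : Nat.card E = 5 ^ w)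
    (hw : 1 ≤ w) : PS 9 H := by
  have hf := BpSpor.MBigModel.finite
  haveI : Fact (Nat.Prime 5) := ⟨Nat.prime_five⟩
  have hH : Nat.card H ∣ NM := card_dvd H
  have hw10 : w < 10 := exp_lt (hE ▸ card_dvd E) (by norm_num)
  have hEH : E ≤ H := hL.norm ▸ le_normalizer
  have h10 : ¬ 5 ^ (9 + 1) ∣ Nat.card H := fun h => absurd (h.trans hH) (by norm_num)
  have h2 : ¬ 2 ^ (21 + 1) ∣ Nat.card H := hL.norm ▸
    orb hK Nat.prime_five (by norm_num) hE (fun _ _ _ => one_dvd _) Nat.prime_two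
      (chk_five_all (2, 22) (by simp) w hw10 hw)
  have h3 : ¬ 3 ^ (9 + 1) ∣ Nat.card H := hL.norm ▸
    orb hK Nat.prime_five (by norm_num) hE (fun _ _ _ => one_dvd _) Nat.prime_three
      (chk_five_all (3, 10) (by simp) w hw10 hw)
  have h3' : ¬ 3 ^ (12 + 1) ∣ Nat.card H := fun h => h3 ((pow_dvd_pow 3 (by norm_num)).trans h)
  set F : Subgroup H := E.subgroupOf H with hFd
  haveI hFn : F.Normal := (normal_subgroupOf_iff_le_normalizer hEH).2 hL.norm.ge
  have hF : Nat.card F = 5 ^ w := by rw [← hE]; exact Nat.card_congr (subgroupOfEquivOfLe hEH).toEquiv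
  by_cases h8 : 8 ≤ w
  · have h4 : ¬ 2 ^ (15 + 1) ∣ Nat.card H := by
      rw [← hL.norm]
      refine orb hK Nat.prime_five (by norm_num) hE (fun x hx _ => ?_) Nat.prime_two (chk_five_top w hw10 h8)
      refine ((pow_dvd_pow 5 h8).trans hE.symm.dvd).trans (card_dvd_of_le fun y hy => ?_)
      exact mem_centralizer_singleton_iff.2 (hL.comm y hy x hx)
    have h5 : Nat.card (H ⧸ F) ∣ Nat.card H := card_quotient_dvd_card F
    refine PS.of_normal (a := 1) (b := 8) F (Gen.ps_one_of_comm fun a b => ?_) (ps_of_sdOrd sd_four _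
      (shrink (h5.trans hH) (fun h => h4 (h.trans h5)) (fun h => h3 (h.trans h5)) fun h => h10 ?_))
    · exact Subtype.ext (Subtype.ext (hL.comm _ a.2 _ b.2))
    · rw [card_eq_card_quotient_mul_card_subgroup F, hF, show 5 ^ (9 + 1) = 5 ^ (7 + 1) * 5 ^ 2 by norm_num]
      exact Nat.mul_dvd_mul h (pow_dvd_pow 5 (by omega))
  by_cases h9 : 5 ^ (8 + 1) ∣ Nat.card H
  swap
  · exact ps_of_sdOrd sd_two H (shrink hH h2 h3' h9)
  by_cases hw1 : w = 1
  · subst hw1
    obtain ⟨x, hx, hxo, hxc⟩ := B.exists_prime_cent (p := 5) (j := 0) (m := 9) Nat.prime_five (IsPGroup.of_card hE)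
      (by rw [hE]; norm_num) (by rwa [hL.norm])
    have hEx : zpowers x = E := eq_of_le_of_card_ge (zpowers_le.2 hx) (by rw [Nat.card_zpowers, hxo, hE, pow_one])
    have h4 : ¬ 2 ^ (10 + 1) ∣ Nat.card H := by
      rw [← hL.norm]
      refine orb hK Nat.prime_five (by norm_num) hE (fun y hy _ => ?_) Nat.prime_two chk_five_one
      refine ((pow_dvd_pow 5 (by norm_num)).trans hxc).trans (card_dvd_of_le fun g hg => ?_)
      rw [← hEx] at hy
      obtain ⟨i, rfl⟩ := hy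
      exact mem_centralizer_singleton_iff.2 (Commute.zpow_right (mem_centralizer_singleton_iff.1 hg) i).eq
    exact ps_of_sdOrd sd_three H (shrink hH h4 h3 h10)
  have hmin : ∀ L : Subgroup H, L.Normal → L ≤ F → L = ⊥ ∨ L = F := by
    intro L hLn hLF
    have h4 : L.map H.subtype ≤ E := map_le_iff_le_comap.2 hLF
    rcases hL.min _ h4 (B.le_normalizer_map L) with h | h
    · exact Or.inl ((Subgroup.map_eq_bot_iff_of_injective _ H.subtype_injective).1 h)
    · refine Or.inr ?_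
      rw [hFd, ← h]
      exact (comap_map_eq_self_of_injective H.subtype_injective L).symm
  obtain ⟨n, hn⟩ := exists_ps H
  set R := derivedSeries H n with hR
  have hX : Nat.card (H ⧸ R) ∣ Nat.card H := card_quotient_dvd_card R
  haveI := quot_solvable H n
  refine ps_of_quot hn ?_
  have hs := QuotientGroup.mk'_surjective R
  rcases hmin (R ⊓ F) inferInstance inf_le_right with h | h
  · haveI : (F.map (QuotientGroup.mk' R)).Normal := hFn.map _ hs
    refine sol_five (F := F.map (QuotientGroup.mk' R)) (w := w) ?_ ?_ (by omega) (by omega)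
      (hX.trans (shrink hH h2 h3' h10))
    · intro L hLn hLF
      have h4 : (L.comap (QuotientGroup.mk' R) ⊓ F).map (QuotientGroup.mk' R) = L := by
        refine le_antisymm (map_le_iff_le_comap.2 inf_le_left) fun l hl => ?_
        obtain ⟨y, hy, rfl⟩ := hLF hl
        exact ⟨y, ⟨hl, hy⟩, rfl⟩
      rcases hmin (L.comap (QuotientGroup.mk' R) ⊓ F) inferInstance inf_le_right with h5 | h5
      · rw [h5, Subgroup.map_bot] at h4
        exact Or.inl h4.symm
      · rw [h5] at h4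
        exact Or.inr h4.symm
    · rw [← hF]
      refine Nat.card_congr (Equiv.ofBijective ((QuotientGroup.mk' R).subgroupMap F) ⟨?_, ?_⟩).symm
      · rw [injective_iff_map_eq_one]
        intro x hx
        have h4 : (x : H) ∈ R ⊓ F := ⟨(QuotientGroup.eq_one_iff _).1 (congrArg Subtype.val hx), x.2⟩
        rw [h, mem_bot] at h4
        exact Subtype.ext h4
      · exact MonoidHom.subgroupMap_surjective _ _
  · refine sd_two _ inferInstance (shrink (hX.trans hH) (fun h4 => h2 (h4.trans hX)) (fun h4 => h3' (h4.trans hX))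
      fun h4 => h10 ?_)
    rw [card_eq_card_quotient_mul_card_subgroup R, pow_succ 5 9]
    refine Nat.mul_dvd_mul h4 (dvd_trans ?_ (card_dvd_of_le (inf_eq_right.1 h)))
    rw [hF]
    exact dvd_pow_self 5 (by omega)

end Cfsg.Agent.DS.M.Five

namespace Cfsg.Agent.DS.M

open Subgroup Cfsg Cfsg.Agent.H936 Cfsg.Agent.DS.Ord Cfsg.Agent.DS.M.Five
open Cfsg.Agent.SP.Mon.NL (NM)

/-- **[M5]** -/
theorem boxM5 : BoxM5 := by
  intro big H E r hL h5
  have hf := BpSpor.MBigModel.finite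
  have hr := hL.prime
  haveI : Fact r.Prime := ⟨hr⟩
  have hP : IsPGroup r E := fun x => ⟨1, Subtype.ext (by rw [pow_one]; exact hL.pow x x.2)⟩
  obtain ⟨w, hE⟩ := IsPGroup.iff_card.1 hP
  have hw : 1 ≤ w := by
    by_contra h0
    obtain rfl : w = 0 := by omega
    exact hL.ne_bot (card_eq_one.1 (by rw [hE, pow_zero]))
  have hH : Nat.card H ∣ NM := card_dvd H
  have hM : r ^ w ∣ NM := hE ▸ card_dvd E
  have key : ∀ {p a : ℕ}, p.Prime → Chk r w 1 p a → ¬ p ^ a ∣ Nat.card H := fun hp h => hL.norm ▸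
    orb big.cf hr (by omega) hE (fun _ _ _ => one_dvd _) hp h
  rcases prime_cases hr h5 ((dvd_pow_self r (by omega)).trans hM) with rfl | rfl | h
  · exact five_case big.cf hL hE hw
  · have h1 : w < 7 := exp_lt hM (by norm_num)
    exact ps_of_sdOrd sd_two H (shrink hH (key Nat.prime_two (chk_seven (2, 22) (by simp) w h1 hw))
      (key Nat.prime_three (chk_seven (3, 13) (by simp) w h1 hw))
      (key Nat.prime_five (chk_seven (5, 9) (by simp) w h1 hw)))
  · have h1 : ∀ r ∈ [11, 13, 17, 19, 23, 29, 31, 41, 47, 59, 71], ¬ r ^ 4 ∣ NM := by decide +kernel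
    exact ps_of_sdOrd sd_one H (shrink hH (key Nat.prime_two (chk_big r h w (exp_lt hM (h1 r h)) hw hM))
      (fun h2 => absurd (h2.trans hH) (by norm_num)) fun h2 => absurd (h2.trans hH) (by norm_num))

end Cfsg.Agent.DS.M
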