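import Cfsg.Agent.DS.Ord.TabA
import Cfsg.Agent.DS.Sp.D8Defs
import Cfsg.Agent.DS.Sp.F24ATools

/-!
# S5881, S5882, the Monster: Lemma K (helper78)

`lemmaK`: `B` solvable of order dividing `NB`, `R` a normal `3`-subgroup of order at most `3 ^ 9` whose commutator
subgroup does not have order three.  Then `B⁽⁸⁾` centralizes `R`.
-/

set_option autoImplicit false
set_option linter.style.haveILetI false
set_option linter.unusedSectionVars false

namespace Cfsg.Agent.DS.M.Kal

open Subgroup Cfsg.Agent.H511.Wt Cfsg.Agent.DS.Ord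
open scoped commutatorElement

section iter

variable {B : Type*} [Group B]

/-- the iterated commutator `[T, D, …, D]` -/
def it (D : Subgroup B) (n : ℕ) (T : Subgroup B) : Subgroup B := (fun X : Subgroup B => ⁅X, D⁆)^[n] T

theorem it_zero (D T : Subgroup B) : it D 0 T = T := rfl

theorem it_succ (D T : Subgroup B) (n : ℕ) : it D (n + 1) T = ⁅it D n T, D⁆ :=
  Function.iterate_succ_apply' _ n T

theorem it_succ' (D T : Subgroup B) (n : ℕ) : it D (n + 1) T = it D n ⁅T, D⁆ := rfl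

theorem it_one (D T : Subgroup B) : it D 1 T = ⁅T, D⁆ := rfl

theorem it_add (D T : Subgroup B) (m n : ℕ) : it D (m + n) T = it D m (it D n T) :=
  Function.iterate_add_apply _ m n T

theorem it_mono (D : Subgroup B) {T T' : Subgroup B} (h : T ≤ T') (n : ℕ) : it D n T ≤ it D n T' := by
  induction n with
  | zero => exact h
  | succ n ih => rw [it_succ, it_succ]; exact commutator_mono ih le_rfl

theorem it_normal (D T : Subgroup B) [D.Normal] [hT : T.Normal] (n : ℕ) : (it D n T).Normal := by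
  induction n with
  | zero => exact hT
  | succ n ih => rw [it_succ]; infer_instance

theorem it_le (D T : Subgroup B) [D.Normal] [T.Normal] (n : ℕ) : it D n T ≤ T := by
  induction n with
  | zero => exact le_rfl
  | succ n ih =>
    haveI := it_normal D T n
    rw [it_succ]
    exact (commutator_le_left _ _).trans ih

theorem it_anti (D T : Subgroup B) [D.Normal] [T.Normal] {m n : ℕ} (h : n ≤ m) : it D m T ≤ it D n T := by
  obtain ⟨k, rfl⟩ := Nat.exists_eq_add_of_le' h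
  haveI := it_normal D T n
  rw [it_add]
  exact it_le _ _ k

/-- the three subgroups lemma modulo a normal subgroup -/
theorem three_mod {X E N : Subgroup B} [N.Normal] (h : ⁅⁅X, E⁆, E⁆ ≤ N) : ⁅X, ⁅E, E⁆⁆ ≤ N := by
  rw [← QuotientGroup.ker_mk' N, ← Subgroup.map_eq_bot_iff, map_commutator, map_commutator] at h ⊢
  rw [commutator_comm]
  exact commutator_commutator_eq_bot_of_rotate (by rwa [commutator_comm (E.map _) (X.map _)]) h

theorem comm_dser (D : Subgroup B) [D.Normal] (j : ℕ) :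
    ∀ T : Subgroup B, T.Normal → ⁅T, dser D j⁆ ≤ it D (2 ^ j) T := by
  induction j with
  | zero => intro T _; exact le_rfl
  | succ j ih =>
    intro T hT
    haveI := it_normal D T (2 ^ (j + 1))
    rw [dser_succ]
    refine three_mod ((commutator_mono (ih T hT) le_rfl).trans ?_)
    rw [pow_succ, mul_two, it_add]
    exact ih _ (it_normal D T _)

/-- chief factors -/
structure Chf (C T : Subgroup B) : Prop where
  nC : C.Normal
  nT : T.Normal
  lt : C < T
  min : ∀ L : Subgroup B, L.Normal → C < L → L ≤ T → L = T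

/-- `D` centralizes the chief factors inside `R` -/
def Cent (D R : Subgroup B) : Prop := ∀ C T : Subgroup B, Chf C T → T ≤ R → ⁅T, D⁆ ≤ C

theorem exists_chf [Finite B] {F T : Subgroup B} [F.Normal] [hT : T.Normal] (h : F < T) :
    ∃ C, F ≤ C ∧ Chf C T := by
  obtain ⟨C, hC⟩ := (Set.toFinite {C : Subgroup B | C.Normal ∧ F ≤ C ∧ C < T}).exists_maximal
    ⟨F, inferInstance, le_rfl, h⟩
  obtain ⟨hCn, hFC, hCT⟩ := hC.prop
  refine ⟨C, hFC, hCn, hT, hCT, fun L hL h1 h2 => ?_⟩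
  by_contra hne
  exact h1.not_ge (hC.le_of_ge ⟨hL, hFC.trans h1.le, lt_of_le_of_ne h2 hne⟩ h1.le)

theorem Chf.comm [Group.IsSolvable B] {C T : Subgroup B} (h : Chf C T) : ⁅T, T⁆ ≤ C := by
  haveI := h.nC
  haveI := h.nT
  by_contra hcon
  have h1 : C ⊔ ⁅T, T⁆ = T := h.min _ inferInstance
    (lt_of_le_of_ne le_sup_left fun e => hcon (le_sup_right.trans e.ge)) (sup_le h.lt.le (commutator_self_le T))
  have h2 : T.map (QuotientGroup.mk' C) = ⊥ := by
    refine eq_bot_of_perfect ?_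
    conv_lhs => rw [← h1]
    rw [Subgroup.map_sup, map_commutator]
    refine sup_le ?_ le_rfl
    rw [(Subgroup.map_eq_bot_iff C).2 (QuotientGroup.ker_mk' C).ge]
    exact bot_le
  rw [Subgroup.map_eq_bot_iff, QuotientGroup.ker_mk'] at h2
  exact h.lt.not_ge h2

end iter

section main

variable {B : Type} [Group B] [Finite B] {R : Subgroup B}

theorem relIndex_three (hR : IsPGroup 3 R) {C T : Subgroup B} (hT : T ≤ R) : ∃ j, C.relIndex T = 3 ^ j := by
  haveI : Fact (Nat.Prime 3) := ⟨Nat.prime_three⟩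
  exact relIndex_pow (hR.to_le hT)

theorem it_le_of (hR : IsPGroup 3 R) {D : Subgroup B} [D.Normal] (hc : Cent D R) (n : ℕ) :
    ∀ C T : Subgroup B, C.Normal → T.Normal → C ≤ T → T ≤ R → C.relIndex T ≤ 3 ^ n → it D n T ≤ C := by
  induction n with
  | zero =>
    intro C T _ _ _ _ h
    have h1 : C.relIndex T ≠ 0 := index_ne_zero_of_finite
    rw [it_zero, ← relIndex_eq_one]
    rw [pow_zero] at h
    omega
  | succ n ih =>
    intro C T hC hT hCT hTR h
    rcases hCT.eq_or_lt with rfl | hlt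
    · exact it_le _ _ _
    obtain ⟨C', h1, h2⟩ := exists_chf hlt
    rw [it_succ']
    refine (it_mono D (hc C' T h2 hTR) n).trans (ih C C' hC h2.nC h1 (h2.lt.le.trans hTR) ?_)
    obtain ⟨j, hj⟩ := relIndex_three hR (C := C') hTR
    have h3 : j ≠ 0 := by
      rintro rfl
      rw [pow_zero, relIndex_eq_one] at hj
      exact h2.lt.not_ge hj
    have h4 : 3 ≤ C'.relIndex T := by
      rw [hj]
      exact Nat.le_self_pow h3 3
    rw [← relIndex_mul_relIndex C C' T h1 h2.lt.le, pow_succ] at h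
    exact Nat.le_of_mul_le_mul_right ((Nat.mul_le_mul_left _ h4).trans h) (by norm_num)

variable [R.Normal]

/-- the exponents along a chief factor -/
theorem exps (hR : IsPGroup 3 R) (h9 : ¬ 3 ^ 10 ∣ Nat.card R) {C T : Subgroup B} (h : C ≤ T) (hT : T ≤ R) :
    ∃ c m a, Nat.card C = 3 ^ c ∧ C.relIndex T = 3 ^ m ∧ T.relIndex R = 3 ^ a ∧ Nat.card R = 3 ^ (c + m + a) ∧
      c + m + a ≤ 9 := by
  obtain ⟨c, hc⟩ := relIndex_three hR (C := ⊥) (h.trans hT)
  obtain ⟨m, hm⟩ := relIndex_three hR (C := C) hT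
  obtain ⟨a, ha⟩ := relIndex_three hR (C := T) le_rfl
  rw [relIndex_bot_left] at hc
  have h1 : Nat.card R = 3 ^ (c + m + a) := by
    rw [← card_mul_relIndex hT, ← card_mul_relIndex h, hc, hm, ha, pow_add, pow_add]
  refine ⟨c, m, a, hc, hm, ha, h1, ?_⟩
  by_contra hlt
  exact h9 (h1 ▸ pow_dvd_pow 3 (by omega))

theorem it_eq_bot (hR : IsPGroup 3 R) (h9 : ¬ 3 ^ 10 ∣ Nat.card R) {D : Subgroup B} [D.Normal] (hc : Cent D R) :
    it D 9 R ≤ ⊥ := by
  obtain ⟨c, m, a, -, -, -, h4, h5⟩ := exps hR h9 (le_refl R) le_rfl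
  refine it_le_of hR hc 9 ⊥ R inferInstance inferInstance bot_le le_rfl ?_
  rw [relIndex_bot_left, h4]
  exact Nat.pow_le_pow_right (by norm_num) h5

theorem it_eq_bot' (hR : IsPGroup 3 R) (h9 : ¬ 3 ^ 10 ∣ Nat.card R) {D : Subgroup B} [D.Normal] (hc : Cent D R)
    {C T : Subgroup B} (h : Chf C T) (hT : T ≤ R) {k : ℕ} (hk : 3 ^ k < C.relIndex T) : it D (9 - k) R ≤ ⊥ := by
  obtain ⟨c, m, a, h1, h2, h3, -, h5⟩ := exps hR h9 h.lt.le hT
  have h6 : k < m := by
    rw [h2] at hk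
    exact (Nat.pow_lt_pow_iff_right (by norm_num)).1 hk
  refine (it_anti D R (show c + (1 + a) ≤ 9 - k by omega)).trans ?_
  rw [it_add, it_add]
  have h7 := it_le_of hR hc a T R h.nT inferInstance hT le_rfl h3.le
  have h8 : it D 1 (it D a R) ≤ C := (it_mono D h7 1).trans (hc C T h hT)
  refine (it_mono D h8 c).trans (it_le_of hR hc c ⊥ C inferInstance h.nC bot_le (h.lt.le.trans hT) ?_)
  rw [relIndex_bot_left, h1]

theorem finish {e j : ℕ} (hej : e + j = 8) (h : it (dser (⊤ : Subgroup B) e) (2 ^ j) R ≤ ⊥) :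
    dser (⊤ : Subgroup B) 8 ≤ centralizer (R : Set B) := by
  rw [← commutator_eq_bot_iff_le_centralizer, commutator_comm, eq_bot_iff, ← hej, ← dser_dser]
  exact (comm_dser _ j R inferInstance).trans h

variable [Group.IsSolvable B]

theorem chf_le (hR : IsPGroup 3 R) {k N e : ℕ} (hok : okT tabAL 3 k N e = true) {C T : Subgroup B} [C.Normal]
    (h : Chf C T) (hT : T ≤ R) (hk : C.relIndex T ≤ 3 ^ k) (hN : (cenMod C T).index ∣ N) :
    ⁅T, dser (⊤ : Subgroup B) e⁆ ≤ C := by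
  haveI := h.nT
  obtain ⟨j, hj⟩ := relIndex_three hR (C := C) hT
  rw [commutator_comm, ← le_cenMod_iff]
  refine tabA_valid.chB B Nat.prime_three hok C T h.lt h.min h.comm j ?_ hj hN
  rw [hj] at hk
  exact (Nat.pow_le_pow_iff_right (by norm_num)).1 hk

theorem cent_of (hB : Nat.card B ∣ Sp.NB) (hR : IsPGroup 3 R) {k e : ℕ} (hok : okT tabAL 3 k Sp.NB e = true)
    (hk : ∀ C T : Subgroup B, Chf C T → T ≤ R → C.relIndex T ≤ 3 ^ k) : Cent (dser (⊤ : Subgroup B) e) R := by
  intro C T h hT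
  haveI := h.nC
  exact chf_le hR hok h hT (hk C T h hT) ((index_dvd_card _).trans hB)

/-- a normal `3`-subgroup centralizes the chief factors -/
theorem cent_self (hR : IsPGroup 3 R) : Cent R R := by
  intro C T h hT
  haveI := h.nC
  haveI := h.nT
  obtain ⟨j, hj⟩ := relIndex_three hR (C := C) hT
  obtain ⟨V, j1, j2, j3, hirr, hc, hV⟩ := exists_mod C T h.lt h.min h.comm
  rw [commutator_comm, ← le_cenMod_iff]
  exact fun g hg => (hV g).1 (irr_pcore hirr Nat.prime_three (hc.trans hj) R hR g hg)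

/-- the factor of order `3 ^ 8` on top -/
theorem top_case (hR : IsPGroup 3 R) (h3 : Nat.card (⁅R, R⁆ : Subgroup B) ≠ 3) {D : Subgroup B} [D.Normal]
    (hc : Cent D R) (hD : ¬ D ≤ centralizer (R : Set B)) {C : Subgroup B} (h : Chf C R) (hC : Nat.card C = 3) :
    R ≤ centralizer (R : Set B) ∧ (centralizer (R : Set B)).relIndex D = C.relIndex R := by
  haveI := h.nC
  have h1 : ⁅R, R⁆ = ⊥ := by
    have h2 := card_dvd_of_le h.comm
    rw [hC] at h2
    rw [← card_eq_one]
    exact ((Nat.dvd_prime Nat.prime_three).1 h2).resolve_right h3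
  have h2 := commutator_eq_bot_iff_le_centralizer.1 h1
  refine ⟨h2, ?_⟩
  have h4 : ⁅C, D⁆ ≤ ⊥ := it_le_of hR hc 1 ⊥ C inferInstance h.nC bot_le h.lt.le (by
    rw [relIndex_bot_left, hC]; norm_num)
  have h5 : C ≤ centralizer (D : Set B) := commutator_eq_bot_iff_le_centralizer.1 (eq_bot_iff.2 h4)
  obtain ⟨ι, hι⟩ := Sp.F24.exists_emb Nat.prime_three hC
  have h6 := H348.Trans.relIndex_centralizer_eq C R D ι hι
    (fun x hx y hy => hc C R h le_rfl (commutator_mem_commutator hx hy))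
    (fun x hx a ha => mem_centralizer_iff.1 (h2 (h.lt.le ha)) x hx)
    (fun y hy a ha => mem_centralizer_iff.1 (h5 ha) y hy)
  rw [← h6, ← inf_relIndex_right]
  congr 1
  by_contra hne
  have h7 : centralizer (D : Set B) ⊓ R = R := h.min _ inferInstance
    (lt_of_le_of_ne (le_inf h5 h.lt.le) (Ne.symm hne)) inf_le_right
  exact hD (le_centralizer_iff.1 (inf_eq_right.1 h7))

/-- the factor of order `3 ^ 8` at the bottom -/
theorem bot_case (hR : IsPGroup 3 R) {D : Subgroup B} [D.Normal] (hc : Cent D R)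
    (hD : ¬ D ≤ centralizer (R : Set B)) {T : Subgroup B} (h : Chf ⊥ T) (hT : T ≤ R) (hi : T.relIndex R = 3) :
    R ≤ centralizer (R : Set B) ∧ (centralizer (R : Set B)).relIndex D = Nat.card T := by
  haveI := h.nT
  have h1 : ∀ t ∈ T, ∀ x ∈ R, x * t = t * x := fun t ht x hx => mem_centralizer_iff.1
    (commutator_eq_bot_iff_le_centralizer.1 (eq_bot_iff.2 (cent_self hR ⊥ T h hT)) ht) x hx
  have h2 : ∀ t ∈ T, ∀ f ∈ D, f * t = t * f := fun t ht f hf => mem_centralizer_iff.1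
    (commutator_eq_bot_iff_le_centralizer.1 (eq_bot_iff.2 (hc ⊥ T h hT)) ht) f hf
  have h3 : ⁅R, D⁆ ≤ T := it_le_of hR hc 1 T R h.nT inferInstance hT le_rfl (by rw [hi]; norm_num)
  obtain ⟨r, hr, hrT⟩ : ∃ r ∈ R, r ∉ T := by
    by_contra hcon
    push Not at hcon
    rw [relIndex_eq_one.2 hcon] at hi
    norm_num at hi
  have h4 : ∀ x ∈ R, ∃ t ∈ T, ∃ i : ℤ, x = t * r ^ i := by
    have h5 : T ⊔ zpowers r ≤ R := sup_le hT (zpowers_le.2 hr)
    have h6 := relIndex_mul_relIndex T (T ⊔ zpowers r) R le_sup_left h5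
    rw [hi] at h6
    have h7 : (T ⊔ zpowers r).relIndex R = 1 := by
      rcases (Nat.dvd_prime Nat.prime_three).1 (Dvd.intro _ h6) with h8 | h8
      · exact absurd (relIndex_eq_one.1 h8 (mem_sup_right (mem_zpowers r))) hrT
      · rw [h8] at h6
        omega
    intro x hx
    obtain ⟨t, ht, _, ⟨i, rfl⟩, rfl⟩ := mem_sup_of_normal_left.1 (relIndex_eq_one.1 h7 hx)
    exact ⟨t, ht, i, rfl⟩
  have h5 : ∀ g : B, (∀ t ∈ T, g * t = t * g) → g * r = r * g → g ∈ centralizer (R : Set B) := by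
    intro g hg hgr
    rw [mem_centralizer_iff]
    intro x hx
    obtain ⟨t, ht, i, rfl⟩ := h4 x hx
    exact (Commute.mul_right (hg t ht) (Commute.zpow_right hgr i)).eq.symm
  refine ⟨fun x hx => h5 x (fun t ht => h1 t ht x hx) ?_, ?_⟩
  · obtain ⟨t, ht, i, rfl⟩ := h4 x hx
    exact (Commute.mul_left (h1 t ht r hr).symm ((Commute.refl r).zpow_left i)).eq
  let φ : D →* B := MonoidHom.mk' (fun f => ⁅r, (f : B)⁆) (by
    intro f g
    have h6 := h2 _ (h3 (commutator_mem_commutator hr g.2)) f f.2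
    calc ⁅r, ((f * g : D) : B)⁆ = ⁅r, (f : B)⁆ * (f * ⁅r, (g : B)⁆) * (f : B)⁻¹ := by
          rw [coe_mul, commutatorElement_def, commutatorElement_def, commutatorElement_def]; group
      _ = _ := by rw [h6]; group)
  have h6 : φ.ker = (centralizer (R : Set B)).subgroupOf D := by
    ext f
    rw [MonoidHom.mem_ker, mem_subgroupOf]
    change ⁅r, (f : B)⁆ = 1 ↔ _
    rw [commutatorElement_eq_one_iff_mul_comm]
    exact ⟨fun e => h5 f (fun t ht => h2 t ht f f.2) e.symm, fun e => mem_centralizer_iff.1 e r hr⟩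
  have h7 : ⁅R, D⁆ = T := by
    refine h.min _ inferInstance (bot_lt_iff_ne_bot.2 fun e => hD ?_) h3
    exact le_centralizer_iff.1 (commutator_eq_bot_iff_le_centralizer.1 e)
  have h8 : φ.range = T := by
    refine le_antisymm ?_ (h7.ge.trans ?_)
    · rintro _ ⟨f, rfl⟩
      exact h3 (commutator_mem_commutator hr f.2)
    · rw [commutator_le]
      intro x hx f hf
      obtain ⟨t, ht, i, rfl⟩ := h4 x hx
      have h9 : ⁅r, f⁆ ∈ T := h3 (commutator_mem_commutator hr hf)
      have h10 : Commute r⁻¹ ⁅r, f⁆ := Commute.inv_left (h1 _ h9 r hr)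
      have h11 : f * (r ^ i)⁻¹ * f⁻¹ = (r ^ i)⁻¹ * ⁅r, f⁆ ^ i := by
        rw [← inv_zpow, ← h10.mul_zpow, ← conj_zpow]
        congr 1
        rw [commutatorElement_def]
        group
      have h12 : ⁅t * r ^ i, f⁆ = ⁅r, f⁆ ^ i := by
        have h13 := h2 t⁻¹ (inv_mem ht) f⁻¹ (inv_mem hf)
        have h14 := h1 t ht _ (hT (zpow_mem h9 i))
        calc ⁅t * r ^ i, f⁆ = t * r ^ i * f * (r ^ i)⁻¹ * (t⁻¹ * f⁻¹) := by rw [commutatorElement_def]; group
          _ = t * (r ^ i * (f * (r ^ i)⁻¹ * f⁻¹)) * t⁻¹ := by rw [← h13]; group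
          _ = t * ⁅r, f⁆ ^ i * t⁻¹ := by rw [h11]; group
          _ = _ := by rw [← h14]; group
      rw [h12]
      exact zpow_mem (show ⁅r, f⁆ ∈ φ.range from ⟨⟨f, hf⟩, rfl⟩) i
  rw [relIndex, ← h6, index_ker, h8]

/-- **Lemma K.** -/
theorem lemmaK (hB : Nat.card B ∣ Sp.NB) (hR : IsPGroup 3 R) (h9 : ¬ 3 ^ 10 ∣ Nat.card R)
    (h3 : Nat.card (⁅R, R⁆ : Subgroup B) ≠ 3) : dser (⊤ : Subgroup B) 8 ≤ centralizer (R : Set B) := by
  by_cases k3 : ∀ C T : Subgroup B, Chf C T → T ≤ R → C.relIndex T ≤ 3 ^ 3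
  · exact finish (e := 4) (j := 4) rfl ((it_anti _ R (by norm_num)).trans
      (it_eq_bot hR h9 (cent_of hB hR (by decide +kernel) k3)))
  by_cases k5 : ∀ C T : Subgroup B, Chf C T → T ≤ R → C.relIndex T ≤ 3 ^ 5
  · push Not at k3
    obtain ⟨C, T, h, hT, hk⟩ := k3
    exact finish (e := 5) (j := 3) rfl ((it_anti _ R (by norm_num)).trans
      (it_eq_bot' hR h9 (cent_of hB hR (by decide +kernel) k5) h hT hk))
  by_cases k7 : ∀ C T : Subgroup B, Chf C T → T ≤ R → C.relIndex T ≤ 3 ^ 7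
  · push Not at k5
    obtain ⟨C, T, h, hT, hk⟩ := k5
    exact finish (e := 6) (j := 2) rfl ((it_anti _ R (by norm_num)).trans
      (it_eq_bot' hR h9 (cent_of hB hR (by decide +kernel) k7) h hT hk))
  by_cases c7 : Cent (dser (⊤ : Subgroup B) 7) R
  · push Not at k7
    obtain ⟨C, T, h, hT, hk⟩ := k7
    exact finish (e := 7) (j := 1) rfl ((it_anti _ R (by norm_num)).trans (it_eq_bot' hR h9 c7 h hT hk))
  have k9 : ∀ C T : Subgroup B, Chf C T → T ≤ R → C.relIndex T ≤ 3 ^ 9 := by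
    intro C T h hT
    obtain ⟨c, m, a, -, h2, -, -, h5⟩ := exps hR h9 h.lt.le hT
    rw [h2]
    exact Nat.pow_le_pow_right (by norm_num) (by omega)
  have c8 : Cent (dser (⊤ : Subgroup B) 8) R := cent_of hB hR (by decide +kernel) k9
  simp only [Cent, not_forall] at c7
  obtain ⟨C, T, h, hT, hn⟩ := c7
  haveI := h.nC
  haveI := h.nT
  have hi : (cenMod C T).index ∣ Sp.NB := (index_dvd_card _).trans hB
  obtain ⟨c, m, a, h1, h2, h4, h5, h6⟩ := exps hR h9 h.lt.le hT
  have h7 : 8 ≤ m := by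
    by_contra hlt
    refine hn ((commutator_mono le_rfl (dser_anti _ (show 6 ≤ 7 by norm_num))).trans
      (chf_le hR (k := 7) (by decide +kernel) h hT ?_ hi))
    rw [h2]
    exact Nat.pow_le_pow_right (by norm_num) (by omega)
  have h8 : 3 ^ 4 ∣ (cenMod C T).index := by
    by_contra hcon
    refine hn (chf_le hR (k := 9) (N := Sp.NB / 3 ^ 17) (by decide +kernel) h hT (k9 C T h hT) ?_)
    have e1 : Sp.NB = 3 ^ 20 * (Sp.NB / 3 ^ 20) := by decide +kernel
    have e2 : Sp.NB / 3 ^ 17 = 3 ^ 3 * (Sp.NB / 3 ^ 20) := by decide +kernel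
    rw [e1] at hi
    rw [e2]
    obtain ⟨a1, a2, b1, b2, e⟩ := exists_dvd_and_dvd_of_dvd_mul hi
    obtain ⟨i, -, rfl⟩ := (Nat.dvd_prime_pow Nat.prime_three).1 b1
    rw [e] at hcon ⊢
    refine Nat.mul_dvd_mul (pow_dvd_pow 3 ?_) b2
    by_contra hlt
    exact hcon ((pow_dvd_pow 3 (by omega)).trans (dvd_mul_right _ _))
  by_contra hD
  have key : R ≤ centralizer (R : Set B) → (centralizer (R : Set B)).relIndex (dser (⊤ : Subgroup B) 8) = 3 ^ 8 →
      Nat.card R = 3 ^ 9 → False := by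
    intro a1 a2 a3
    have b1 : dser (⊤ : Subgroup B) 8 ⊔ centralizer (R : Set B) ≤ cenMod C T := by
      refine sup_le ?_ fun x hx => mem_cenMod.2 fun y hy => ?_
      · rw [le_cenMod_iff, commutator_comm]
        exact c8 C T h hT
      · rw [commutatorElement_eq_one_iff_mul_comm.2 (mem_centralizer_iff.1 hx y (hT hy)).symm]
        exact one_mem _
    have b2 := card_dvd_of_le b1
    rw [← card_mul_relIndex (le_sup_right : centralizer (R : Set B) ≤ _), relIndex_sup_right, a2] at b2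
    have b3 := card_dvd_of_le a1
    rw [a3] at b3
    have b4 : 3 ^ 4 * (3 ^ 9 * 3 ^ 8) ∣ Nat.card B := by
      rw [← (cenMod C T).index_mul_card]
      exact Nat.mul_dvd_mul h8 ((Nat.mul_dvd_mul_right b3 _).trans b2)
    exact absurd (b4.trans hB) (by decide +kernel)
  rcases (by omega : (c = 0 ∧ a = 0) ∨ (c = 1 ∧ a = 0 ∧ m = 8) ∨ (c = 0 ∧ a = 1 ∧ m = 8)) with
    ⟨rfl, rfl⟩ | ⟨rfl, rfl, rfl⟩ | ⟨rfl, rfl, rfl⟩
  · rw [pow_zero, card_eq_one] at h1
    rw [pow_zero, relIndex_eq_one] at h4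
    obtain rfl : T = R := le_antisymm hT h4
    subst h1
    refine hD ?_
    rw [← commutator_eq_bot_iff_le_centralizer, commutator_comm, eq_bot_iff]
    exact c8 ⊥ T h hT
  · rw [pow_zero, relIndex_eq_one] at h4
    obtain rfl : T = R := le_antisymm hT h4
    obtain ⟨a1, a2⟩ := top_case hR h3 c8 hD h (by rw [h1, pow_one])
    exact key a1 (a2.trans h2) h5
  · rw [pow_zero, card_eq_one] at h1
    subst h1
    obtain ⟨a1, a2⟩ := bot_case hR c8 hD h hT (by rw [h4, pow_one])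
    rw [relIndex_bot_left] at h2
    exact key a1 (a2.trans h2) h5

end main

end Cfsg.Agent.DS.M.Kal
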