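import Cfsg.Agent.DS.NT.StepA
import Cfsg.Agent.LThreeMB.ZStar
import Cfsg.Agent.Lib.Cores
import Cfsg.Agent.S0205

/-!
# The Monster, box M3n: the pure part (helper78)

`X` is a finite group, `R` a normal subgroup of odd order which contains every normal subgroup of prime power order.  If `C(R)` is not contained in `R`, then `C(R)` contains two different commuting involutions.
-/

set_option autoImplicit false
set_option linter.style.haveILetI false

namespace Cfsg.Agent.DS.M.Non

open Subgroup Cfsg Cfsg.Agent.H936 Cfsg.Agent.DS.Cl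
open scoped commutatorElement IsMulCommutative

/-- a solvable normal subgroup centralizing `R` lies in `R` -/
theorem sol_le {X : Type*} [Group X] [Finite X] {R : Subgroup X}
    (hmax : ∀ r : ℕ, r.Prime → ∀ Q : Subgroup X, Q.Normal → IsPGroup r Q → Q ≤ R)
    {N : Subgroup X} (hN : N.Normal) (hNC : N ≤ centralizer (R : Set X)) (hs : Group.IsSolvable N) : N ≤ R := by
  obtain ⟨k, hk⟩ := hs
  have hk' : dS N k = ⊥ := by rw [← Cl.map_derivedSeries_eq, hk, Subgroup.map_bot]
  clear hk
  induction k generalizing N with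
  | zero => rw [dS_zero] at hk'; rw [hk']; exact bot_le
  | succ k ih =>
    have h1 : ⁅N, N⁆ ≤ R := by
      refine ih inferInstance ((commutator_le_self N).trans hNC) ?_
      rw [← dS_one, dS_add, add_comm, hk']
    have h2 : Group.IsNilpotent N := by
      refine Subgroup.isNilpotent_of_ker_le_center (Abelianization.of (G := N)) fun z hz => ?_
      rw [Abelianization.ker_of] at hz
      have h3 : (z : X) ∈ ⁅N, N⁆ := by
        rw [← dS_one, ← Cl.map_derivedSeries_eq]
        exact ⟨z, hz, rfl⟩
      rw [mem_center_iff]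
      exact fun g => Subtype.ext (mem_centralizer_iff.1 (hNC g.2) z (h1 h3)).symm
    exact NT.le_of_sylow h2 fun r hr Q hQ _ hp => hmax r hr Q hQ hp

/-- two different commuting involutions in `C(R)` -/
theorem exists_four {X : Type*} [Group X] [Finite X] {R : Subgroup X} [R.Normal]
    (hmax : ∀ r : ℕ, r.Prime → ∀ Q : Subgroup X, Q.Normal → IsPGroup r Q → Q ≤ R)
    (h2 : ¬ 2 ∣ Nat.card R) (hC : ¬ centralizer (R : Set X) ≤ R) :
    ∃ t ∈ centralizer (R : Set X), ∃ d ∈ centralizer (R : Set X), orderOf t = 2 ∧ orderOf d = 2 ∧ t * d = d * t ∧ d ≠ t := by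
  have : Fact (Nat.Prime 2) := ⟨Nat.prime_two⟩
  set D := centralizer (R : Set X) with hD
  have hDn : D.Normal := inferInstance
  have h1 : 2 ∣ Nat.card D := by
    by_contra h
    exact hC (sol_le hmax hDn le_rfl (S0205.result (Nat.odd_iff.2 (by omega))))
  obtain ⟨z, hz⟩ := exists_prime_orderOf_dvd_card' 2 h1
  by_contra hcon
  obtain ⟨N, hN, hodd, hsup⟩ := LThreeMB.ZStar.exists_core hz fun d hd => by
    by_contra hne
    refine hcon ⟨z, z.2, (d * z * d⁻¹ : D), (d * z * d⁻¹).2, by rw [Subgroup.orderOf_coe, hz], ?_,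
      congrArg Subtype.val hd.symm, fun h => hne (Subtype.ext h)⟩
    rw [Subgroup.orderOf_coe, ← hz]
    exact orderOf_injective (MulAut.conj d).toMonoidHom (MulAut.conj d).injective z
  have hch := Lib.Cores.pPrimeCore_characteristic (G := D) 2
  have h3 : (pPrimeCore 2 D).map D.subtype ≤ R := by
    refine sol_le hmax inferInstance (map_subtype_le _) (S0205.result ?_)
    rw [card_map_of_injective D.subtype_injective, ← Nat.coprime_two_right]
    exact Lib.Cores.pPrimeCore_coprime 2
  have h4 : z ∈ center D := by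
    have h5 : N ≤ centralizer ({z} : Set D) := fun n hn => by
      have h6 : (n : X) ∈ R := h3 ⟨n, Lib.Cores.le_pPrimeCore hN (Nat.coprime_two_right.2 hodd) hn, rfl⟩
      exact mem_centralizer_singleton_iff.2 (Subtype.ext (mem_centralizer_iff.1 z.2 n h6))
    rw [sup_eq_right.2 h5] at hsup
    exact mem_center_iff.2 fun g => mem_centralizer_singleton_iff.1 (hsup ▸ mem_top g)
  have h6 : Group.IsSolvable (center D) := Group.isSolvable_of_comm fun a b => mul_comm a b
  have h5 : (center D).map D.subtype ≤ R :=
    sol_le hmax inferInstance (map_subtype_le _) (Group.isSolvable_of_surjective (D.subtype.subgroupMap_surjective _))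
  refine h2 ?_
  rw [← hz, ← Subgroup.orderOf_coe]
  exact Subgroup.orderOf_dvd_natCard _ (h5 ⟨z, h4, rfl⟩)

end Cfsg.Agent.DS.M.Non
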