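import Cfsg.Agent.DS.M.Defs
import Cfsg.Agent.DS.Cl.Grp
import Cfsg.Agent.DS.Nt.Cnt
import Cfsg.Agent.SP.Mon.NL.Cent
import Cfsg.Agent.H740.OreM.ThreeBd
import Cfsg.Agent.H979.OddB
import Cfsg.Agent.H844.Ore.BInv

/-!
# The Monster, box M3n: centralizers (helper78)

* `three_bound`: a `3`-subgroup which centralizes two different commuting involutions has order at most `3 ^ 9`;
* `ps_cent`: `PS 5 C(e)` for `e` of order `3` commuting with an involution (`ps_3B`: the `3`-central class);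
* `ps_norm`: `PS 6 N(⟨e⟩)`.
-/

set_option autoImplicit false
set_option maxRecDepth 100000
set_option linter.style.haveILetI false

namespace Cfsg.Agent.DS.M.Non

open Cfsg Cfsg.Agent.MonsterX Cfsg.Agent.MonsterX.InstData Cfsg.Agent.MonsterX.MainPack Cfsg.Agent.MonsterU
open Cfsg.Agent.MonsterP Cfsg.Agent.MonsterN Cfsg.Agent.LThreeMB
open Cfsg.Agent.MonsterX.MainBasic Cfsg.Agent.MonsterX.MainSimple Cfsg.Agent.MonsterX.Model
open Cfsg.Agent.MonsterU.Lam2 Cfsg.Agent.MonsterU.TwoCls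
open Cfsg.Agent.BpSpor.MBigModel Cfsg.Agent.H199.NSmMon
open Cfsg.Agent.H936 Cfsg.Agent.DS.Cl
open Subgroup (centralizer center zpowers normalizer mem_centralizer_singleton_iff mem_centralizer_iff mem_center_iff)
open scoped commutatorElement

section Gen

variable {G : Type} [Group G]

theorem three_bound_A [Finite G] {L : Type} [Group L] (hL : Spor.IsoB L) {R : Subgroup G} (hR : IsPGroup 3 R) {t d : G}
    (ht : orderOf t = 2) (hd : orderOf d = 2)
    (htd : t * d = d * t) (hne : d ≠ t) (htR : ∀ r ∈ R, r * t = t * r) (hdR : ∀ r ∈ R, r * d = d * r)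
    (h2 : Nat.card ↥(center ↥(centralizer ({t} : Set G))) = 2)
    (e : ↥(centralizer ({t} : Set G)) ⧸ center ↥(centralizer ({t} : Set G)) ≃* L) :
    ¬ 3 ^ 10 ∣ Nat.card R := by
  have : Fact (Nat.Prime 3) := ⟨Nat.prime_three⟩
  let φ : ↥(centralizer ({t} : Set G)) →* L := e.toMonoidHom.comp (QuotientGroup.mk' _)
  let t' : ↥(centralizer ({t} : Set G)) := ⟨t, mem_centralizer_singleton_iff.2 rfl⟩
  let d' : ↥(centralizer ({t} : Set G)) := ⟨d, mem_centralizer_singleton_iff.2 htd.symm⟩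
  have hZ : zpowers t' = center ↥(centralizer ({t} : Set G)) := by
    refine Subgroup.eq_of_le_of_card_ge ?_ ?_
    · rw [Subgroup.zpowers_le, mem_center_iff]
      exact fun g => Subtype.ext (mem_centralizer_singleton_iff.1 g.2)
    · rw [h2, Nat.card_zpowers, ← Subgroup.orderOf_coe, ht]
  have hker : ∀ c, φ c = 1 → (c : G) = 1 ∨ (c : G) = t := by
    intro c hc
    have h3 : c ∈ center ↥(centralizer ({t} : Set G)) := (QuotientGroup.eq_one_iff c).1 (e.map_eq_one_iff.1 hc)
    rw [← hZ] at h3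
    obtain ⟨i, hi⟩ := h3
    have h4 : t ^ i = c := congrArg Subtype.val hi
    have h5 : t ^ (2 : ℤ) = 1 := by
      have h6 := pow_orderOf_eq_one t
      rw [ht] at h6
      rw [← h6]
      exact zpow_natCast t 2
    rcases Int.even_or_odd' i with ⟨j, rfl | rfl⟩
    · left; rw [← h4, zpow_mul, h5, one_zpow]
    · right; rw [← h4, zpow_add, zpow_mul, h5, one_zpow, one_mul, zpow_one]
  have hu : orderOf (φ d') = 2 := by
    have : Fact (Nat.Prime 2) := ⟨Nat.prime_two⟩
    refine orderOf_eq_prime ?_ fun h => ?_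
    · rw [← map_pow, show d' ^ 2 = 1 from Subtype.ext (by rw [← hd]; exact pow_orderOf_eq_one d), map_one]
    · rcases hker _ h with h3 | h3
      · rw [show d = 1 from h3, orderOf_one] at hd
        omega
      · exact hne h3
  intro h
  refine H844.Ore.BInv.not_three_B hL hu (h.trans ?_)
  have hRt : R ≤ centralizer ({t} : Set G) := fun r hr => mem_centralizer_singleton_iff.2 (htR r hr)
  let ψ : R →* L := φ.comp (Subgroup.inclusion hRt)
  have hψ : Function.Injective ψ := by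
    rw [injective_iff_map_eq_one]
    intro r hr
    rcases hker _ hr with h3 | h3
    · exact Subtype.ext h3
    · exfalso
      obtain ⟨k, hk⟩ := hR r
      have h4 : orderOf t ∣ 3 ^ k := by
        rw [← show (r : G) = t from h3]
        exact orderOf_dvd_of_pow_eq_one (congrArg Subtype.val hk)
      rw [ht] at h4
      exact absurd (Nat.prime_two.dvd_of_dvd_pow h4) (by norm_num)
  rw [Nat.card_congr (MonoidHom.ofInjective hψ).toEquiv]
  refine Subgroup.card_dvd_of_le ?_
  rintro _ ⟨r, rfl⟩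
  rw [mem_centralizer_singleton_iff]
  change φ _ * φ _ = φ _ * φ _
  rw [← map_mul, ← map_mul]
  exact congrArg φ (Subtype.ext (hdR r r.2))

theorem three_bound_B [Finite G] {L : Type} [Group L] (hL : Spor.IsoB L) {R : Subgroup G} (hR : IsPGroup 3 R) {t d t0 : G}
    (ht : orderOf t = 2) (hd : orderOf d = 2)
    (htd : t * d = d * t) (hne : d ≠ t) (htR : ∀ r ∈ R, r * t = t * r) (hdR : ∀ r ∈ R, r * d = d * r) (h0 : IsConj t t0)
    (h2 : Nat.card ↥(center ↥(centralizer ({t0} : Set G))) = 2)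
    (e : ↥(centralizer ({t0} : Set G)) ⧸ center ↥(centralizer ({t0} : Set G)) ≃* L) :
    ¬ 3 ^ 10 ∣ Nat.card R := by
  obtain ⟨g, hg⟩ := isConj_iff.1 h0
  let c : G →* G := (MulAut.conj g).toMonoidHom
  have hc : Function.Injective c := (MulAut.conj g).injective
  have hct : c t = t0 := hg
  rw [Nat.card_congr (R.equivMapOfInjective c hc).toEquiv]
  refine three_bound_A hL (hR.map c) (t := t0) (d := c d) (by rw [← hct, orderOf_injective c hc, ht])
    (by rw [orderOf_injective c hc, hd]) (by rw [← hct, ← map_mul, ← map_mul, htd])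
    (fun h => hne (hc (h.trans hct.symm))) ?_ ?_ h2 e
  · rintro _ ⟨r, hr, rfl⟩
    rw [← hct, ← map_mul, ← map_mul, htR r hr]
  · rintro _ ⟨r, hr, rfl⟩
    rw [← map_mul, ← map_mul, hdR r hr]

theorem ps_cent_conj {k : ℕ} {x y g : G} (hg : g * x * g⁻¹ = y) (h : PS k (centralizer ({x} : Set G))) :
    PS k (centralizer ({y} : Set G)) := by
  have h1 : (centralizer ({x} : Set G)).map (MulAut.conj g).toMonoidHom = centralizer ({y} : Set G) := by
    ext a
    rw [Subgroup.mem_map_equiv, mem_centralizer_singleton_iff, mem_centralizer_singleton_iff, ← hg]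
    change g⁻¹ * a * g * x = x * (g⁻¹ * a * g) ↔ _
    constructor
    · intro h2
      calc a * (g * x * g⁻¹) = g * (g⁻¹ * a * g * x) * g⁻¹ := by group
        _ = g * (x * (g⁻¹ * a * g)) * g⁻¹ := by rw [h2]
        _ = _ := by group
    · intro h2
      calc g⁻¹ * a * g * x = g⁻¹ * (a * (g * x * g⁻¹)) * g := by group
        _ = g⁻¹ * (g * x * g⁻¹ * a) * g := by rw [h2]
        _ = _ := by group
  rw [← h1]
  exact ps_map _ h

theorem ps_rad {z x : G} {N : Subgroup G} {A : Type} [Group A] {f : centralizer ({z} : Set G) →* A} {p k : ℕ}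
    (h : BpSpor.M5.Rad p z x N f) (hs : IsSimpleGroup A) (hn : ¬ Group.IsSolvable A) (h1 : PS k N) : PS (k + 1) G := by
  have := h.nN
  have h2 : PS (1 + 0) (centralizer ({z} : Set G)) := by
    refine PS.of_ker h.surj (ps_of_comm ?_) (Gen.ps_zero_of_simple fun h => hn ?_)
    · intro a ha b _
      have h3 := mem_centralizer_singleton_iff.1 b.2
      have h4 : ∀ i : ℤ, x ^ i * b = b * x ^ i := fun i => ((show Commute (b : G) x from h.xc _).zpow_right i).eq.symm
      apply Subtype.ext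
      obtain ⟨i, hi | hi⟩ := h.ker a ha
      · rw [Subgroup.coe_mul, Subgroup.coe_mul, hi, h4]
      · rw [Subgroup.coe_mul, Subgroup.coe_mul, hi, mul_assoc, ← h3, ← mul_assoc, h4, mul_assoc]
    · exact Group.isSolvable_of_comm h.is_comm.comm
  refine PS.of_normal N h1 (PS.of_surj (f := (QuotientGroup.mk' N).comp (Subgroup.subtype _)) (fun q => ?_) h2)
  obtain ⟨g, rfl⟩ := QuotientGroup.mk'_surjective N q
  obtain ⟨n, hn, c, hc, rfl⟩ := h.sup g
  refine ⟨⟨c, mem_centralizer_singleton_iff.2 hc⟩, ?_⟩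
  rw [map_mul, show QuotientGroup.mk' N n = 1 from (QuotientGroup.eq_one_iff n).2 hn, one_mul]
  rfl

theorem ps_four [Finite G] {N : Subgroup G} (h : Nat.card N = 3 ^ 13) : PS 4 N := by
  have : Fact (Nat.Prime 3) := ⟨Nat.prime_three⟩
  have h1 : IsPGroup 3 (⊤ : Subgroup N) := (IsPGroup.of_card h).to_subgroup _
  exact PS.of_equiv Subgroup.topEquiv
    (PS.of_bot (Nt.derivedSeries_pgroup Nat.prime_three h1 (c := 4) (by rw [h]; norm_num)))

theorem ps_XX {x : G} (hs : IsSimpleGroup (XX x)) (hc : center (XX x) ≠ ⊤) : PS 5 (centralizer ({x} : Set G)) := by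
  refine (PS.of_normal (a := 1) (b := 0) (Zx x) (ps_of_comm ?_) (Gen.ps_zero_of_simple fun h => hc ?_)).mono (by norm_num)
  · rintro _ ⟨i, rfl⟩ _ ⟨j, rfl⟩
    exact (Commute.zpow_zpow_self _ i j).eq
  · exact (Subgroup.eq_top_iff' _).2 fun a => mem_center_iff.2 fun b => h.is_comm.comm b a

theorem exists_conj_in {e z g : G} (hg : g * z * g⁻¹ * e = e * (g * z * g⁻¹)) :
    ∃ x : centralizer ({z} : Set G), g * (x : G) * g⁻¹ = e ∧ orderOf x = orderOf e := by
  let x : centralizer ({z} : Set G) := ⟨g⁻¹ * e * g, mem_centralizer_singleton_iff.2 (by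
    calc g⁻¹ * e * g * z = g⁻¹ * (e * (g * z * g⁻¹)) * g := by group
      _ = g⁻¹ * (g * z * g⁻¹ * e) * g := by rw [hg]
      _ = _ := by group)⟩
  have hxe : g * (x : G) * g⁻¹ = e := by
    change g * (g⁻¹ * e * g) * g⁻¹ = e
    group
  refine ⟨x, hxe, ?_⟩
  rw [← Subgroup.orderOf_coe, ← hxe]
  exact (orderOf_injective (MulAut.conj g).toMonoidHom (MulAut.conj g).injective _).symm

theorem conj_symm {x y k : G} (h : k * x * k⁻¹ = y) : k⁻¹ * y * k⁻¹⁻¹ = x := by
  rw [← h]
  group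

theorem ps_between {k : ℕ} {e : G} (h : PS k (centralizer ({e} : Set G))) {H : Subgroup G}
    (h1 : centralizer ({e} : Set G) ≤ H) (h3 : H ≤ normalizer (zpowers e : Set G)) : PS (1 + k) H := by
  refine ps_up ?_ h1 h
  rw [dS_one, Subgroup.commutator_le]
  intro a ha b hb
  obtain ⟨i, hi⟩ := (Subgroup.mem_normalizer_iff.1 (h3 (H.inv_mem ha)) e).1 (Subgroup.mem_zpowers e)
  obtain ⟨j, hj⟩ := (Subgroup.mem_normalizer_iff.1 (h3 (H.inv_mem hb)) e).1 (Subgroup.mem_zpowers e)
  have h4 : (a * b)⁻¹ * e * (a * b) = (b * a)⁻¹ * e * (b * a) := by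
    have h5 : e ^ i = a⁻¹ * e * a⁻¹⁻¹ := hi
    have h6 : e ^ j = b⁻¹ * e * b⁻¹⁻¹ := hj
    calc (a * b)⁻¹ * e * (a * b) = b⁻¹ * (a⁻¹ * e * a⁻¹⁻¹) * b⁻¹⁻¹ := by group
      _ = (e ^ j) ^ i := by rw [← h5, ← conj_zpow, ← h6]
      _ = (e ^ i) ^ j := by rw [← zpow_mul, ← zpow_mul, mul_comm]
      _ = a⁻¹ * (b⁻¹ * e * b⁻¹⁻¹) * a⁻¹⁻¹ := by rw [← h6, ← conj_zpow, ← h5]
      _ = _ := by group
  rw [mem_centralizer_singleton_iff, commutatorElement_def]
  calc a * b * a⁻¹ * b⁻¹ * e = a * b * ((b * a)⁻¹ * e * (b * a)) * (b * a)⁻¹ := by group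
    _ = a * b * ((a * b)⁻¹ * e * (a * b)) * (b * a)⁻¹ := by rw [h4]
    _ = _ := by group

end Gen

/-- a `3`-subgroup centralizing a four-group -/
theorem three_bound {R : Subgroup MG} (hR : IsPGroup 3 R) {t d : MG} (ht : orderOf t = 2) (hd : orderOf d = 2)
    (htd : t * d = d * t) (hne : d ≠ t) (htR : ∀ r ∈ R, r * t = t * r) (hdR : ∀ r ∈ R, r * d = d * r) :
    ¬ 3 ^ 10 ∣ Nat.card R := by
  have := finite
  rcases cls ht with ⟨g, hg⟩ | hA
  · intro h
    have h1 : R ≤ centralizer ({t} : Set MG) := fun r hr => mem_centralizer_singleton_iff.2 (htR r hr)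
    have h2 := h.trans (Subgroup.card_dvd_of_le h1)
    rw [BpSpor.card_cent_of_conj hg, card_cent_z] at h2
    norm_num at h2
  · obtain ⟨t0, hA0, h2, ⟨e⟩⟩ := H979.OddB.exists_cover (L := Spor.BabyMonster) ⟨MulEquiv.refl _⟩
    exact three_bound_B ⟨MulEquiv.refl _⟩ hR ht hd htd hne htR hdR (IsConj.trans (IsConj.symm hA) hA0) h2 e

/-- the `3`-central class -/
theorem ps_3B {x : centralizer ({zz} : Set MG)} (hx : orderOf x = 3) (hfr : fr (pi x) = 1) :
    PS 5 (centralizer ({(x : MG)} : Set MG)) := by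
  have := finite
  obtain ⟨N, hD⟩ := H740.OreM.ThreeBd.exists_SD hx hfr
  exact ps_rad hD.rad hD.simple hD.ns (ps_four hD.cardN)

/-- elements of order `3` commuting with an involution -/
theorem ps_cent {e : MG} (he : orderOf e = 3) (h2 : 2 ∣ Nat.card (centralizer ({e} : Set MG))) :
    PS 5 (centralizer ({e} : Set MG)) := by
  have := finite
  have := simple
  have I := CoOneFin.coOne
  have htr := KPair.trNe KDone.lft LThreeB.Row.cent (LThreeMBTr.traceNe KDone.lft LThreeMBTr.TensK.tens)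
  obtain ⟨g, hg⟩ := ev_of_even he (by rw [Nat.not_odd_iff_even]; exact even_iff_two_dvd.2 h2)
  obtain ⟨x, hxe, hx⟩ := exists_conj_in hg
  rw [he] at hx
  refine ps_cent_conj hxe ?_
  rcases I.ranks (pi x) (orderOf_pi chart hx) with h1 | h1 | h1 | h1
  · exact ps_3B hx h1
  · obtain ⟨x₀, u, g, hx₀, hfr₀, huz, hux, hne, hg⟩ :=
      KPair.hasPair KDone.lft LThreeB.Row.cent PreUniq.MonRow.second COct.octPair
    obtain ⟨k, hk⟩ := conj_six chart htr I.ranks I.six
      (fun x hx h2 => ⟨(good_of_inputs chart I hx h2 : Good.{0} _).simple, (good_of_inputs chart I hx h2 : Good.{0} _).nc⟩)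
      hx₀ hfr₀ huz hux hne hg hx h1
    exact ps_cent_conj (conj_symm hk) (ps_3B hx₀ hfr₀)
  · have h3 : Good.{0} _ := good_of_inputs chart I hx (Or.inl h1)
    exact ps_XX h3.simple h3.nc
  · have h3 : Good.{0} _ := good_of_inputs chart I hx (Or.inr h1)
    exact ps_XX h3.simple h3.nc

/-- a subgroup between the centralizer and the normalizer -/
theorem ps_norm {e : MG} (he : orderOf e = 3) (h2 : 2 ∣ Nat.card (centralizer ({e} : Set MG))) {H : Subgroup MG}
    (h1 : centralizer ({e} : Set MG) ≤ H) (h3 : H ≤ normalizer (zpowers e : Set MG)) : PS 6 H :=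
  ps_between (ps_cent he h2) h1 h3

end Cfsg.Agent.DS.M.Non
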