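import Cfsg.Agent.DS.M.Kal
import Cfsg.Agent.DS.M.NonA
import Cfsg.Agent.DS.M.NonB
import Cfsg.Agent.H577.CABasic
import Cfsg.Agent.S3292

/-!
# The Monster, box M3n (helper78)

The `3`-local maximal subgroups which are not `3`-constrained.
-/

set_option autoImplicit false
set_option maxRecDepth 100000
set_option linter.style.haveILetI false

namespace Cfsg.Agent.DS.M.Non

open Subgroup Cfsg Cfsg.Agent.H936 Cfsg.Agent.DS.Cl
open Cfsg.Agent.BpSpor.MBigModel (MG)
open scoped commutatorElement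

/-- the second case, in the abstract group -/
theorem ps_abs (big : Big) {X : Type} [Group X] [Finite X] {R : Subgroup X} [R.Normal] (hX : Nat.card X ∣ Sp.NB)
    (hR : IsPGroup 3 R) (hmax : ∀ r : ℕ, r.Prime → ∀ Q : Subgroup X, Q.Normal → IsPGroup r Q → Q ≤ R)
    (h9 : ¬ 3 ^ 10 ∣ Nat.card R) (h3 : Nat.card (⁅R, R⁆ : Subgroup X) ≠ 3) (hrk : NT.RankLe X 2 15) : PS 9 X := by
  have : Fact (Nat.Prime 3) := ⟨Nat.prime_three⟩
  have key : ∀ Y : Subgroup X, Group.IsSolvable Y → dS Y 8 ≤ centralizer (R : Set X) := by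
    intro Y hY
    have hRs : Group.IsSolvable R := by
      have := hR.isNilpotent
      infer_instance
    have hB := H577.solvable_sup R Y hRs hY
    have hle : R ≤ R ⊔ Y := le_sup_left
    have h1 := Kal.lemmaK (B := ↥(R ⊔ Y)) (R := R.subgroupOf (R ⊔ Y)) ((card_subgroup_dvd_card _).trans hX)
      (hR.of_equiv (subgroupOfEquivOfLe hle).symm) (by rwa [Nat.card_congr (subgroupOfEquivOfLe hle).toEquiv]) (by
        rwa [← card_map_of_injective (R ⊔ Y).subtype_injective, Subgroup.map_commutator, map_subgroupOf_eq_of_le hle])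
    refine (dS_mono (le_sup_right : Y ≤ R ⊔ Y) 8).trans ?_
    rw [← Cl.map_derivedSeries_eq, ← H511.Wt.dser_top]
    rintro _ ⟨y, hy, rfl⟩
    rw [mem_centralizer_iff]
    intro r hr
    exact congrArg Subtype.val (mem_centralizer_iff.1 (h1 hy) ⟨r, hle hr⟩ hr)
  refine NT.ps_fit big (centralizer (R : Set X)) (a := 8) (c := 5) le_rfl key (fun r hr Q hQ hQC hQp => ?_)
    fun U _ _ _ hU k N _ f hf hker => ?_
  · have h1 := hmax r hr Q hQ hQp
    exact ⟨fun x hx y hy => mem_centralizer_iff.1 (hQC hy) x (h1 hx),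
      fun Y hY => (key Y hY).trans (centralizer_le h1)⟩
  · have hd : 2 ∣ Nat.card U := by
      by_contra h
      exact hU ⟨⟨IsSimpleGroup.comm_iff_isSolvable.2 (S0205.result (Nat.odd_iff.2 (by omega)))⟩⟩
    have h1 := NT.le_of_rankLe (Gen.ps_zero_of_simple hU) Nat.prime_two hd f hf hker
      (hrk.of_inj N.subtype N.subtype_injective)
    exact Gen.sd_perm_fifteen (by simpa using h1)

theorem core (big : Big) {G : Type} [Group G] [Finite G] {H R : Subgroup G} (hG : Nat.card G ∣ Sp.NB)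
    (hR : IsPGroup 3 R) (hN : normalizer (R : Set G) = H)
    (hmax : ∀ r : ℕ, r.Prime → ∀ Q : Subgroup G, IsPGroup r Q → H ≤ normalizer (Q : Set G) → Q ≤ R)
    (hC : ¬ centralizer (R : Set G) ≤ R) (hrk : NT.RankLe G 2 15)
    (hb : ∀ t d : G, orderOf t = 2 → orderOf d = 2 → t * d = d * t → d ≠ t → (∀ r ∈ R, r * t = t * r) →
      (∀ r ∈ R, r * d = d * r) → ¬ 3 ^ 10 ∣ Nat.card R)
    (hn : ∀ e : G, orderOf e = 3 → 2 ∣ Nat.card (centralizer ({e} : Set G)) → H ≤ normalizer (zpowers e : Set G) → PS 9 H) :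
    PS 9 H := by
  have : Fact (Nat.Prime 3) := ⟨Nat.prime_three⟩
  have hRH : R ≤ H := hN ▸ le_normalizer
  have hCH : centralizer (R : Set G) ≤ H := hN ▸ centralizer_le_normalizer _
  have hnor : ∀ Q : Subgroup H, Q.Normal → H ≤ normalizer (Q.map H.subtype : Set G) := by
    intro Q hQ
    refine le_trans ?_ (le_normalizer_map H.subtype)
    rw [normalizer_eq_top, ← MonoidHom.range_eq_map, range_subtype]
  have hRn : (R.subgroupOf H).Normal := (normal_subgroupOf_iff_le_normalizer hRH).2 hN.ge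
  have hR0 : IsPGroup 3 (R.subgroupOf H) := hR.of_equiv (subgroupOfEquivOfLe hRH).symm
  have hc0 : Nat.card (R.subgroupOf H) = Nat.card R := Nat.card_congr (subgroupOfEquivOfLe hRH).toEquiv
  have hmax0 : ∀ r : ℕ, r.Prime → ∀ Q : Subgroup H, Q.Normal → IsPGroup r Q → Q ≤ R.subgroupOf H := by
    intro r hr Q hQ hp x hx
    exact hmax r hr _ (hp.map H.subtype) (hnor Q hQ) ⟨x, hx, rfl⟩
  have hodd : ¬ 2 ∣ Nat.card (R.subgroupOf H) := by
    obtain ⟨k, hk⟩ := IsPGroup.iff_card.1 hR0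
    rw [hk]
    exact fun h => absurd (Nat.prime_two.dvd_of_dvd_pow h) (by norm_num)
  obtain ⟨t, ht, d, hd, ht2, hd2, htd, hne⟩ := exists_four hmax0 hodd (fun h => hC fun x hx =>
    h (show (⟨x, hCH hx⟩ : H) ∈ centralizer (R.subgroupOf H : Set H) from
      mem_centralizer_iff.2 fun r hr => Subtype.ext (mem_centralizer_iff.1 hx r hr)))
  have htR : ∀ r ∈ R, r * (t : G) = t * r := fun r hr =>
    congrArg Subtype.val (mem_centralizer_iff.1 ht ⟨r, hRH hr⟩ hr)
  have h9 := hb t d (by rw [Subgroup.orderOf_coe, ht2]) (by rw [Subgroup.orderOf_coe, hd2]) (congrArg Subtype.val htd)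
    (fun h => hne (Subtype.ext h)) htR fun r hr => congrArg Subtype.val (mem_centralizer_iff.1 hd ⟨r, hRH hr⟩ hr)
  by_cases h3 : Nat.card (⁅R.subgroupOf H, R.subgroupOf H⁆ : Subgroup H) = 3
  · have h4 : Nontrivial (⁅R.subgroupOf H, R.subgroupOf H⁆ : Subgroup H) :=
      Finite.one_lt_card_iff_nontrivial.1 (by omega)
    obtain ⟨⟨e, he⟩, he1⟩ := @exists_ne _ h4 1
    have h5 : orderOf e = 3 := by
      have h6 : orderOf e ∣ 3 := h3 ▸ Subgroup.orderOf_dvd_natCard _ he
      refine ((Nat.dvd_prime Nat.prime_three).1 h6).resolve_left fun h7 => he1 (Subtype.ext (orderOf_eq_one_iff.1 h7))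
    have h6 : zpowers e = ⁅R.subgroupOf H, R.subgroupOf H⁆ :=
      eq_of_le_of_card_ge (zpowers_le.2 he) (by rw [h3, Nat.card_zpowers, h5])
    have h7 : (e : G) ∈ R := mem_subgroupOf.1 (commutator_le_self (R.subgroupOf H) he)
    refine hn e (by rw [Subgroup.orderOf_coe, h5]) ?_ ?_
    · rw [← ht2, ← Subgroup.orderOf_coe]
      exact Subgroup.orderOf_dvd_natCard _ (mem_centralizer_singleton_iff.2 (htR e h7).symm)
    · have h8 := hnor _ (inferInstance : (⁅R.subgroupOf H, R.subgroupOf H⁆ : Subgroup H).Normal)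
      rwa [← h6, MonoidHom.map_zpowers] at h8
  · exact ps_abs big ((card_subgroup_dvd_card H).trans hG) hR0 hmax0 (by rwa [hc0]) h3
      (hrk.of_inj H.subtype H.subtype_injective)

theorem cent_le_norm {G : Type} [Group G] (e : G) : centralizer ({e} : Set G) ≤ normalizer (zpowers e : Set G) := by
  refine le_trans (fun x hx => ?_) (centralizer_le_normalizer _)
  rw [mem_centralizer_iff]
  rintro _ ⟨i, rfl⟩
  exact ((show Commute x e from mem_centralizer_singleton_iff.1 hx).zpow_right i).eq.symm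

theorem rank_of {G L : Type} [Group G] [Group L] (e : L ≃* G) (h : PRankLE 2 15 L) : NT.RankLe G 2 15 :=
  NT.RankLe.of_inj e.symm.toMonoidHom e.symm.injective fun A hc hp =>
    h A ⟨⟨fun a b => Subtype.ext (hc a a.2 b b.2)⟩⟩ hp

theorem pg_zpowers {G : Type} [Group G] [Finite G] {e : G} (he : orderOf e = 3) : IsPGroup 3 (zpowers e) ∧ zpowers e ≠ ⊥ := by
  refine ⟨IsPGroup.of_card (n := 1) (by rw [Nat.card_zpowers, he, pow_one]), fun h => ?_⟩
  rw [zpowers_eq_bot.1 h, orderOf_one] at he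
  omega

/-- **Box M3n.** -/
theorem boxM3n : BoxM3n := by
  intro big H R hR hno hC
  have hf := BpSpor.MBigModel.finite
  obtain ⟨e2⟩ := MonsterP.Equiv.equiv
  refine core big (by rw [BpSpor.MBigModel.card_M]; decide +kernel) hR.pg hR.norm (fun r hr Q hQ hHQ => ?_) hC
    (rank_of e2 S3292.result.2) (fun t d => three_bound hR.pg) fun e he h2 hH => ?_
  · by_cases h3 : r = 3
    · exact hR.max Q (h3 ▸ hQ) hHQ
    · exact (hno r hr h3 Q hQ hHQ).le.trans bot_le
  · have h1 := norm_eq hR.coatom Nat.prime_three (pg_zpowers he).1 (pg_zpowers he).2 hH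
    exact (ps_norm he h2 ((cent_le_norm e).trans h1.le) hH).mono (by norm_num)

end Cfsg.Agent.DS.M.Non
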