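import Cfsg.Agent.DS.M.Two3
import Cfsg.Agent.DS.B.Sing

/-!
# The box `BoxM2` (helper98)
-/

set_option autoImplicit false
set_option linter.style.haveILetI false

namespace Cfsg.Agent.DS.M.Two

/-- **The `2`-local maximal subgroups of the Monster.** -/
theorem boxM2 : BoxM2 := boxM2_of fun _ _ _ _ _ _ o _ F _ S hS h => by
  haveI := R2.H4.Mon.MonFr.finite
  exact B.ps_sing F o S hS h

end Cfsg.Agent.DS.M.Two
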