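import Cfsg.Agent.DS.Cl.Grp
import Cfsg.Agent.DS.Gen.Perm
import Cfsg.Agent.DS.Gen.Omega
import Cfsg.Agent.R2.H10.Mon.Final
import Cfsg.Agent.H848.TenI
import Cfsg.Agent.S0399

/-!
# The box `BoxM2` (helper98): points, arks, and the reduction to singular subgroups
-/

set_option autoImplicit false
set_option linter.style.haveILetI false
set_option linter.unusedSectionVars false

namespace Cfsg.Agent.DS.M.Two

open Subgroup Cfsg Cfsg.Agent.H936 Cfsg.Agent.DS.Cl
open Cfsg.Agent.MonsterU.Lam2 (L2)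
open Cfsg.Agent.MonsterU.Ch
open Cfsg.Agent.CoOneType.SignFacts
open Cfsg.Agent.Co2Type.Quad
open Cfsg.Agent.R2.H4.Mon.Frm Cfsg.Agent.R2.H4.Mon.GeoInst
open Cfsg.Agent.R2.H10.Mon.Red Cfsg.Agent.R2.H10.Mon.TwoA Cfsg.Agent.R2.H10.Mon.Top
open Cfsg.Agent.R2.M7 (Geo)
open Cfsg.Spor (Co1)
open scoped commutatorElement

theorem ps_one_of_simple {T : Type*} [Group T] [IsSimpleGroup T] : PS 1 T := by
  by_cases h : IsMulCommutative T
  · exact Gen.ps_one_of_comm h.is_comm.comm
  · exact (Gen.ps_zero_of_simple h).mono (by norm_num)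

variable {G : Type} [Group G]

theorem ps_conj {k : ℕ} {K : Subgroup G} (g : G) (h : PS k (normalizer (K : Set G))) :
    PS k (normalizer ((K.map (MulAut.conj g).toMonoidHom : Subgroup G) : Set G)) := by
  rw [normalizer_conj]
  exact ps_map _ h

/-- commutators in an abelian subgroup -/
theorem ps_two_of {M A : Subgroup G} (h1 : ∀ a ∈ M, ∀ b ∈ M, a * b * a⁻¹ * b⁻¹ ∈ A)
    (h2 : ∀ x ∈ A, ∀ y ∈ A, x * y = y * x) : PS 2 M := by
  refine ps_of_bot ?_
  have h3 : dS M 1 ≤ A := by
    rw [dS_one, commutator_le]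
    exact h1
  rw [eq_bot_iff, show 2 = 1 + 1 from rfl, ← dS_add, ← dS_one_eq_bot h2]
  exact dS_mono h3 1

theorem mem_closure_one {a x : G} (ha : a * a = 1) (hx : x ∈ closure ({a} : Set G)) : x = 1 ∨ x = a := by
  induction hx using closure_induction with
  | mem y hy => exact Or.inr hy
  | one => exact Or.inl rfl
  | mul y w _ _ hy hw =>
    rcases hy with rfl | rfl <;> rcases hw with rfl | rfl
    · exact Or.inl (one_mul _)
    · exact Or.inr (one_mul _)
    · exact Or.inr (mul_one _)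
    · exact Or.inl ha
  | inv y _ hy =>
    rcases hy with rfl | rfl
    · exact Or.inl inv_one
    · exact Or.inr (inv_eq_of_mul_eq_one_right ha)

theorem normalizer_one [Finite G] {a : G} (ha : a * a = 1) (h1 : a ≠ 1) :
    normalizer ((closure {a} : Subgroup G) : Set G) = centralizer {a} := by
  ext g
  rw [mem_centralizer_singleton_iff]
  constructor
  · intro h
    rcases mem_closure_one ha ((mem_normalizer_iff.1 h a).1 (subset_closure rfl)) with e | e
    · exact absurd (conj_eq_one_iff.1 e) h1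
    · exact mul_inv_eq_iff_eq_mul.1 e
  · intro h
    refine mem_normalizer_fintype fun x hx => ?_
    rcases mem_closure_one ha hx with rfl | rfl
    · rw [mul_one, mul_inv_cancel]
      exact one_mem _
    · rw [h, mul_inv_cancel_right]
      exact hx

variable [Finite G] {Q : Subgroup G} {z : G} {eta : G → L2} {pi : Subgroup.centralizer ({z} : Set G) →* Co1} {y τ : G}
  {o : golayCode}

theorem ker_pi (h : Chart Q z eta pi) : pi.ker = Q.subgroupOf (centralizer {z}) := by
  ext c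
  rw [MonoidHom.mem_ker, h.pi_eq_one, mem_subgroupOf]

theorem Q_le (h : Chart Q z eta pi) : Q ≤ centralizer {z} := fun x hx =>
  mem_centralizer_singleton_iff.2 (h.large.comm_z x hx)

theorem card_cent (h : Chart Q z eta pi) : Nat.card (centralizer ({z} : Set G)) = 2 ^ 25 * 4157776806543360000 := by
  rw [← pi.ker.card_mul_index, index_ker, pi.range_eq_top_of_surjective h.pi_surj, card_top, S0399.result.2, ker_pi h,
    Nat.card_congr (subgroupOfEquivOfLe (Q_le h)).toEquiv, h.card_Q]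

/-- the centralizer of a point -/
theorem ps_pt (h : Chart Q z eta pi) : PS 3 (centralizer ({z} : Set G)) := by
  haveI : IsSimpleGroup Co1 := S0399.result.1
  refine PS.of_ker (a := 2) (b := 1) h.pi_surj ?_ ps_one_of_simple
  rw [ker_pi h, ps_subgroupOf (Q_le h)]
  refine ps_two_of (A := closure {z}) (fun a ha b hb => ?_) fun a ha b hb => ?_
  · rcases h.large.comm a ha b hb with e | e
    · rw [e, mul_assoc, mul_assoc, mul_inv_cancel_left, mul_inv_cancel]
      exact one_mem _
    · have e1 : a * b * a⁻¹ * b⁻¹ = z := by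
        rw [e]
        calc b * a * z * a⁻¹ * b⁻¹ = b * (a * z) * a⁻¹ * b⁻¹ := by group
          _ = b * z * b⁻¹ := by rw [h.large.comm_z a ha]; group
          _ = z := by rw [h.large.comm_z b hb]; group
      rw [e1]
      exact subset_closure rfl
  · rcases mem_closure_one h.large.z_sq ha with rfl | rfl <;> rcases mem_closure_one h.large.z_sq hb with rfl | rfl <;>
      simp only [mul_one, one_mul]

theorem cent_conj (g a : G) :
    centralizer ({g * a * g⁻¹} : Set G) = (centralizer ({a} : Set G)).map (MulAut.conj g).toMonoidHom := by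
  ext x
  rw [mem_centralizer_singleton_iff]
  constructor
  · intro h
    refine ⟨g⁻¹ * x * g, mem_centralizer_singleton_iff.2 ?_, ?_⟩
    · calc g⁻¹ * x * g * a = g⁻¹ * (x * (g * a * g⁻¹)) * g := by group
        _ = _ := by rw [h]; group
    · show g * (g⁻¹ * x * g) * g⁻¹ = x
      group
  · rintro ⟨w, hw, rfl⟩
    show g * w * g⁻¹ * (g * a * g⁻¹) = g * a * g⁻¹ * (g * w * g⁻¹)
    calc g * w * g⁻¹ * (g * a * g⁻¹) = g * (w * a) * g⁻¹ := by group
      _ = _ := by rw [mem_centralizer_singleton_iff.1 hw]; group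

/-- involutions centralized by an element of order `19` -/
theorem isA_of (h : Chart Q z eta pi) {a : G} (ha : a * a = 1) (h1 : a ≠ 1)
    (h19 : 19 ∣ Nat.card (centralizer ({a} : Set G))) : IsA z a := by
  refine ⟨ha, h1, ?_⟩
  rintro ⟨g, rfl⟩
  rw [cent_conj, card_map_of_injective (MulAut.conj g).injective, card_cent h] at h19
  norm_num at h19

open Cfsg.Agent.H848 Cfsg.Agent.LieClassical.OrthCore Cfsg.Agent.LieClassical.OrthTrans in
/-- the normalizer of an ark -/
theorem ps_ark (ho : wt o = 8) (F : Fr Q z eta pi y τ) (hE : TE F.ch τ) :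
    PS 2 (normalizer (TenB.T F.ch o : Set G)) := by
  have Fo := facts ho
  obtain ⟨t, ht, htQ, ⟨g, hg, hgz⟩, htk, ι, c⟩ := TenE.exists_crd F.ch Fo F.hyQ F.hy F.τz F.τy hE
  obtain ⟨β, hβ⟩ := TenF.exists_beta c
  obtain ⟨hrange, hcard⟩ := TenH.range_eq F.ch Fo F.hyQ F.hy F.τz F.τy hE c hβ ht htQ hg hgz htk
  refine ps_ext' (a := 2) (b := 0) β ?_ ?_
  · rw [TenF.ker_beta c hβ, ps_subgroupOf (TenG.C_le_N F.ch)]
    exact ps_two_of (A := TenB.T F.ch o)
      (fun a ha b hb => TenI.comm_C F.ch Fo F.hyQ F.hy F.τz F.τy hE ht hg hgz htk hcard ha hb)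
      fun a ha b hb => TenB.ab_T F.ch Fo F.hyQ F.hy F.τz F.τy hE ha hb
  · rw [hrange, ps_iff]
    exact TenF.good.E_perfect

/-- **The reduction to singular subgroups of order at least four.** -/
theorem ps_of_sing (ho : wt o = 8) (F : Fr Q z eta pi y τ) (hE : TE F.ch τ) (A : AFacts z)
    (h1 : ∃ a, IsA z a ∧ PS 9 (centralizer ({a} : Set G)))
    (h2 : ∃ t d, IsA z t ∧ IsA z d ∧ IsA z (t * d) ∧ t * d = d * t ∧
      PS 9 (normalizer ((closure {t, d} : Subgroup G) : Set G)))
    (h3 : ∀ S : Subgroup G, (geo F.ch o).Sing S → (∃ u ∈ S, ∃ v ∈ S, u ≠ 1 ∧ v ≠ 1 ∧ u ≠ v) →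
      PS 9 (normalizer (S : Set G)))
    {H : Subgroup G} (hH : IsMaximalTwoLocal H) : PS 9 H := by
  obtain ⟨T, Z, D⟩ := exists_data F.ch.large (IsPGroup.of_card F.ch.card_Q) hH
  by_cases hpt : ∃ c ∈ Z, TwoB z c
  swap
  · rcases two_a A D (fun c hc h => hpt ⟨c, hc, h⟩) with ⟨a, ha, rfl⟩ | ⟨t, d, ht, hd, htd, hc, rfl⟩
    · obtain ⟨b, hb, h4⟩ := h1
      obtain ⟨g, rfl⟩ := A.conj b a hb ha
      rw [normalizer_one ha.1 ha.2.1, cent_conj]
      exact ps_map _ h4
    · obtain ⟨t', d', ht', hd', htd', hc', h4⟩ := h2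
      obtain ⟨g, rfl, rfl⟩ := A.pair t' d' t d ht' hd' htd' hc' ht hd htd hc
      have h5 := ps_conj g h4
      rwa [closure_conj, Set.image_pair] at h5
  have hsit : (geo F.ch o).Sit T Z :=
    { two := D.hT
      comm := fun x hx t ht => (D.comm x hx t ht).symm
      ab := fun x hx y hy => D.comm x hx y (D.hZT hy)
      sq := D.sq
      all := fun x hx h => D.closed hpt x hx fun t ht => (h t ht).symm
      pt := hpt }
  rcases R2.H10.Mon.Final.mainC ho F hE T Z hsit with ⟨g, hg⟩ | ⟨S, hSb, hSZ, hS, hinv⟩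
  · rw [D.hNZ, hg]
    exact (ps_conj g (ps_ark ho F hE)).mono (by norm_num)
  have hHS : H = normalizer (S : Set G) := by
    refine D.norm S (D.hT.to_le (hSZ.trans D.hZT)) hSb fun g hg => mem_normalizer_fintype (hinv g fun x hx => ?_)
    rw [D.hNZ] at hg
    exact (mem_normalizer_iff.1 hg x).1 hx
  rw [hHS]
  by_cases h4 : ∃ u ∈ S, ∃ v ∈ S, u ≠ 1 ∧ v ≠ 1 ∧ u ≠ v
  · exact h3 S hS h4
  obtain ⟨⟨u, hu⟩, hu1⟩ := (ne_bot_iff_exists_ne_one).1 hSb
  have hu1' : u ≠ 1 := fun e => hu1 (Subtype.ext e)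
  have h5 : S = closure {u} := by
    refine le_antisymm (fun v hv => ?_) ((closure_le _).2 (Set.singleton_subset_iff.2 hu))
    by_cases hv1 : v = 1
    · rw [hv1]
      exact one_mem _
    · rw [not_not.1 fun e => h4 ⟨v, hv, u, hu, hv1, hu1', e⟩]
      exact subset_closure rfl
  obtain ⟨g, rfl⟩ : TwoB z u := hS.1 u hu hu1'
  rw [h5, normalizer_one (D.sq _ (hSZ hu)) hu1', cent_conj]
  exact (ps_map _ (ps_pt F.ch)).mono (by norm_num)

end Cfsg.Agent.DS.M.Two
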