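import Cfsg.Agent.DS.M.Two1
import Cfsg.Agent.S5533
import Cfsg.Agent.S5534
import Cfsg.Agent.S1704
import Cfsg.Agent.BM.HBFinal
import Cfsg.Agent.S1070
import Cfsg.Agent.H555.NineteenNormal

/-!
# The box `BoxM2` (helper98): the class `2A`
-/

set_option autoImplicit false
set_option linter.style.haveILetI false
set_option linter.unusedSectionVars false

namespace Cfsg.Agent.DS.M.Two

open Subgroup Cfsg Cfsg.Agent.H936 Cfsg.Agent.DS.Cl
open Cfsg.Agent.MonsterU.Lam2 (L2)
open Cfsg.Agent.MonsterU.Ch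
open Cfsg.Agent.R2.H10.Mon.TwoA
open Cfsg.Spor (Co1 Monster)

variable {Q : Subgroup Monster} {z : Monster} {eta : Monster → L2}
  {pi : Subgroup.centralizer ({z} : Set Monster) →* Co1}

theorem exists_A1 (h : Chart Q z eta pi) : ∃ a, IsA z a ∧ PS 9 (centralizer ({a} : Set Monster)) := by
  haveI := R2.H4.Mon.MonFr.finite
  obtain ⟨a, ha, -, ⟨e⟩, -⟩ := S5534.result
  refine ⟨a, isA_of h (by rw [← pow_two, ← ha, pow_orderOf_eq_one]) (by
    rintro rfl
    rw [orderOf_one] at ha
    norm_num at ha) ?_, ?_⟩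
  · refine dvd_trans ?_ (center _).index_dvd_card
    rw [index, Nat.card_congr e.toEquiv, S1704.result.2]
    norm_num
  · haveI := S1704.result.1
    exact (Gen.ps_of_center (ps_one_of_simple.of_equiv e.symm)).mono (by norm_num)

theorem ps_S3 : PS 2 (Equiv.Perm (Fin 3)) := Gen.ps_of_sd (Gen.sd_perm_of (n := 3) (by norm_num) (by decide) (by simp))

theorem exists_A2 (h : Chart Q z eta pi) : ∃ t d, IsA z t ∧ IsA z d ∧ IsA z (t * d) ∧ t * d = d * t ∧
    PS 9 (normalizer ((closure {t, d} : Subgroup Monster) : Set Monster)) := by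
  classical
  haveI := R2.H4.Mon.MonFr.finite
  obtain ⟨E, N, K, hE, rfl, hEK, ⟨F, _, _, hF, _, ⟨e⟩⟩, ⟨_, ⟨e'⟩⟩, -⟩ := S5533.result
  have hc : ∀ a b : E, a * b = b * a := fun a b => (IsKleinFour.isMulCommutative (G := E)).is_comm.comm a b
  have hsq : ∀ a ∈ E, a * a = 1 := fun a ha => congrArg Subtype.val (IsKleinFour.mul_self (⟨a, ha⟩ : E))
  haveI : Fact (Nat.Prime 19) := ⟨by norm_num⟩
  have h19 : 19 ∣ Nat.card (normalizer (E : Set Monster)) := by
    refine dvd_trans ?_ (card_subgroup_dvd_card K)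
    refine dvd_trans ?_ ((E.subgroupOf (normalizer (E : Set Monster))).subgroupOf K).index_dvd_card
    rw [index, Nat.card_congr e.toEquiv, BM.HBFinal.card_E F hF]
    norm_num
  obtain ⟨g, hg⟩ := exists_prime_orderOf_dvd_card' 19 h19
  have hg' : orderOf (g : Monster) = 19 := by rw [Subgroup.orderOf_coe, hg]
  have hA : ∀ a ∈ E, a ≠ 1 → IsA z a := fun a ha h1 => isA_of h (hsq a ha) h1 (by
    rw [← hg']
    exact Subgroup.orderOf_dvd_natCard _ (mem_centralizer_singleton_iff.2 (mul_inv_eq_iff_eq_mul.1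
      (H555.NineteenNormal.commute_of_card_lt (p := 19) (by norm_num) (by rw [← hg', pow_orderOf_eq_one]) E
        (by rw [IsKleinFour.card_four]; norm_num) g.2 a ha))))
  haveI := Fintype.ofFinite E
  haveI : Nontrivial E := Finite.one_lt_card_iff_nontrivial.1 (by rw [IsKleinFour.card_four]; norm_num)
  obtain ⟨t, ht⟩ : ∃ t : E, t ≠ 1 := exists_ne 1
  obtain ⟨d, hd1, hd2⟩ : ∃ d : E, d ≠ 1 ∧ d ≠ t := by
    by_contra hne
    have h1 : (Finset.univ : Finset E) ⊆ {1, t} := fun d _ => by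
      by_cases h2 : d = 1
      · simp [h2]
      · simp [not_not.1 fun h3 => hne ⟨d, h2, h3⟩]
    have h2 := (Finset.card_le_card h1).trans Finset.card_le_two
    rw [Finset.card_univ, ← Nat.card_eq_fintype_card, IsKleinFour.card_four] at h2
    norm_num at h2
  have hv : ∀ {a : E}, a ≠ 1 → (a : Monster) ≠ 1 := fun h1 h2 => h1 (Subtype.ext h2)
  have htd : t * d ≠ 1 := fun h1 => hd2 (by rw [← inv_eq_of_mul_eq_one_right h1, IsKleinFour.inv_eq_self])
  have hcl : closure {(t : Monster), (d : Monster)} = E := by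
    refine le_antisymm ((closure_le _).2 ?_) fun x hx => ?_
    · rintro _ (rfl | rfl)
      exacts [t.2, d.2]
    · have m1 : (t : Monster) ∈ closure {(t : Monster), (d : Monster)} := subset_closure (Or.inl rfl)
      have m2 : (d : Monster) ∈ closure {(t : Monster), (d : Monster)} := subset_closure (Or.inr rfl)
      by_cases a1 : (⟨x, hx⟩ : E) = 1
      · rw [show x = 1 from congrArg Subtype.val a1]
        exact one_mem _
      by_cases a2 : (⟨x, hx⟩ : E) = t
      · rwa [show x = t from congrArg Subtype.val a2]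
      by_cases a3 : (⟨x, hx⟩ : E) = d
      · rwa [show x = d from congrArg Subtype.val a3]
      rw [show x = t * d from congrArg Subtype.val
        (IsKleinFour.eq_mul_of_ne_all ht hd1 hd2.symm a1 a2 a3)]
      exact mul_mem m1 m2
  refine ⟨t, d, hA _ t.2 (hv ht), hA _ d.2 (hv hd1), hA _ (t * d).2 (hv htd), congrArg Subtype.val (hc t d), ?_⟩
  rw [hcl]
  haveI := (S1070.result (K := F) (q := 2) Nat.prime_two.isPrimePow (by rw [hF]; norm_num)).1
  refine (PS.of_normal K (PS.of_normal _ (a := 1) ?_ (ps_one_of_simple.of_equiv e.symm)) (ps_S3.of_equiv e'.symm)).mono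
    (by norm_num)
  exact ps_of_comm fun a ha b hb => Subtype.ext (Subtype.ext
    (congrArg (fun x : E => (x : Monster)) (hc ⟨_, ha⟩ ⟨_, hb⟩)))

end Cfsg.Agent.DS.M.Two
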