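import Cfsg.Agent.DS.M.Two2
import Cfsg.Agent.DS.M.Defs
import Cfsg.Agent.R2.H10.Mon.Asm

/-!
# The box `BoxM2` (helper98): assembly from the normalizers of the singular subgroups
-/

set_option autoImplicit false
set_option linter.style.haveILetI false
set_option linter.unusedSectionVars false

namespace Cfsg.Agent.DS.M.Two

open Subgroup Cfsg Cfsg.Agent.H936 Cfsg.Agent.DS.Cl
open Cfsg.Agent.MonsterU.Lam2 (L2)
open Cfsg.Agent.MonsterU.Ch
open Cfsg.Agent.CoOneType.SignFacts
open Cfsg.Agent.R2.H4.Mon.Frm Cfsg.Agent.R2.H4.Mon.GeoInst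
open Cfsg.Spor (Co1 Monster)
open Cfsg.Agent.BpSpor.MBigModel (MG)

/-- the normalizers of the singular subgroups of order at least four -/
def Sing4 : Prop :=
  ∀ (Q : Subgroup Monster) (z : Monster) (eta : Monster → L2) (pi : Subgroup.centralizer ({z} : Set Monster) →* Co1)
    (y τ : Monster) (o : golayCode), wt o = 8 → ∀ F : Fr Q z eta pi y τ, TE F.ch τ → ∀ S : Subgroup Monster,
      (geo F.ch o).Sing S → (∃ u ∈ S, ∃ v ∈ S, u ≠ 1 ∧ v ≠ 1 ∧ u ≠ v) → PS 9 (normalizer (S : Set Monster))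

theorem ps_monster (h3 : Sing4) {H : Subgroup Monster} (hH : IsMaximalTwoLocal H) : PS 9 H := by
  haveI := R2.H4.Mon.MonFr.finite
  obtain ⟨Q, z, eta, pi, y, τ, F, A⟩ := R2.H10.Mon.Asm.exists_fr_afacts
  obtain ⟨o, ho⟩ := exists_octad
  obtain ⟨τ', F', hE⟩ := Fr.exists_TE F
  exact ps_of_sing ho F' hE A (exists_A1 F'.ch) (exists_A2 F'.ch) (h3 Q z eta pi y τ' o ho F' hE) hH

theorem normalizer_map {G G' : Type*} [Group G] [Group G'] (e : G ≃* G') (K : Subgroup G) :
    normalizer ((K.map e.toMonoidHom : Subgroup G') : Set G') = (normalizer (K : Set G)).map e.toMonoidHom :=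
  (map_normalizer_eq_of_bijective K e.bijective).symm

theorem map_map_symm {G G' : Type*} [Group G] [Group G'] (e : G ≃* G') (K : Subgroup G) :
    (K.map e.toMonoidHom).map e.symm.toMonoidHom = K := by
  rw [map_map]
  ext x
  simp

theorem boxM2_of (h3 : Sing4) : BoxM2 := by
  intro _ H Q hH hQ h0 hHQ
  obtain ⟨e⟩ := MonsterP.Equiv.equiv
  have hb : ∀ {G G' : Type} [Group G] [Group G'] (f : G ≃* G') {K : Subgroup G}, K ≠ ⊥ → K.map f.toMonoidHom ≠ ⊥ :=
    fun f K h1 h2 => h1 ((Subgroup.map_eq_bot_iff_of_injective _ f.injective).1 h2)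
  have hc : ∀ K : Subgroup MG, (K.map e.symm.toMonoidHom).map e.toMonoidHom = K := fun K => map_map_symm e.symm K
  have hm : IsMaximalTwoLocal (H.map e.symm.toMonoidHom) := by
    refine ⟨⟨Q.map e.symm.toMonoidHom, hQ.map _, hb _ h0, ?_⟩, ?_⟩
    · rw [normalizer_map, norm_eq hH Nat.prime_two hQ h0 hHQ]
    · rintro _ ⟨T, hT, hT0, rfl⟩ hle
      have h1 : H ≤ normalizer ((T.map e.toMonoidHom : Subgroup MG) : Set MG) := by
        rw [normalizer_map, ← hc H]
        exact map_mono hle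
      rw [← norm_eq hH Nat.prime_two (hT.map _) (hb _ hT0) h1, normalizer_map]
      exact (map_map_symm e _).symm
  exact (ps_monster h3 hm).of_equiv (H.equivMapOfInjective _ e.symm.injective).symm

end Cfsg.Agent.DS.M.Two
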